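import Cfsg.Agent.Twisted.F4BT.Weights

/-!
The theorem of Borel and Tits for a two-element of the group of type twisted F4: its centraliser lies in a
conjugate of one of the two proper parabolic subgroups over the Borel subgroup.
-/

set_option autoImplicit false
set_option maxRecDepth 4000

namespace Cfsg.Agent.Twisted.TypeF4

open ChevGroup ChevIsogeny Cfsg.Lie Cfsg.Agent.ChevBT
open Matrix

/-- the step over the second reflection -/
def step1' : TStepData TypeF4.model.tab.n 2 where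
  m := 2
  KS := [1]
  JS := []
  rep := [[], [1]]
  tgt := [[], [1, 0]]
  v := [[], [[], []]]
  span := ([24, 25, 26, 27, 28, 29, 30, 31, 32, 33, 34, 35, 36, 37, 38, 39, 40, 41, 42, 43, 44, 45, 46, 47] : List (Fin 48))

theorem step1'_ok : orb.stepB TypeF4.model.S step1' = true := by decide +kernel

theorem span1'_ok : Mat.spanB chevF4 (step1'.span.map Fin.val) = true := by decide +kernel

variable {F : Type*} [Field F] [Fintype F] {m : ℕ} {K : Rels chevF4 F}
  (Z : Frame (T := MT) K PP (2 ^ m) fd) (hK : Fintype.card F = 2 ^ (2 * m + 1))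

set_option quotPrecheck false in
local notation "G₁" => genG MT K (f4Words F (2 ^ m))

set_option quotPrecheck false in
local notation "DT" => (gens Z hK).data

omit [Fintype F] in
theorem gl_nw (w : List (Fin MT.tab.l)) :
    (((MT.rel K).nw w : ↥(chevF4.group F)) : GL chevF4.Idx F) = ChevCore.nw chevF4 F (w.map Fin.val) := by
  induction w with
  | nil => simp [ChevCore.nw, RootRel.nw]
  | cons i w ih =>
    rw [RootRel.nw_cons, Subgroup.coe_mul, ih]
    simp only [ChevCore.nw, List.map_cons, List.prod_cons]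
    congr 1
    refine Units.ext ?_
    show Model.mat (nOf MT.S.neg (MT.xG K) (MT.S.simple i) 1) = _
    rw [MT.mat_nOf, MT.simple_eq]
    simp [ChevCore.ng, goodF.val_xg, ChevalleyDatum.nMat, ChevalleyDatum.nWord, ChevalleyDatum.wordMat,
      mul_assoc]

include Z hK

theorem borel_of_B1 {b : ↥(chevF4.group F)} (hb : b ∈ (DT).B1) :
    (b : GL chevF4.Idx F) ∈ chevF4.borelSubgroup F := by
  rw [← MT.B_map K]
  exact Subgroup.mem_map_of_mem _ hb.2

theorem nW_ent (W : List (Fin 2)) (x : Fin chevF4.rank → ℝ) :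
    Ent (fun a b => ChevBT.wv (actx chevF4 (wl W) x) a = ChevBT.wv x b)
      ((((DT).nW W : ↥(chevF4.group F)) : GL chevF4.Idx F) : Matrix chevF4.Idx chevF4.Idx F) := by
  obtain ⟨h, hh, e⟩ := (DT).nW_coset W
  have hd : (h : GL chevF4.Idx F) ∈ chevF4.diagonalSubgroup F := by
    rw [← MT.H_map K]
    exact Subgroup.mem_map_of_mem _ hh
  obtain ⟨χ, hχ⟩ := goodF.H_diag hd
  intro a b hab
  rw [e, Subgroup.coe_mul, Units.val_mul, hχ, Matrix.diagonal_mul, gl_nw] at hab
  exact ChevBT.nw_ent goodF (wl_lt W) x a b (right_ne_zero_of_mul hab)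

/-- A word fixing a dominant weight with positive coordinate lies in the corresponding parabolic. -/
theorem nW_mem_of_fix {p : ℝ × ℝ} (ha : 0 ≤ p.1) (hb : 0 ≤ p.2) {i : ℕ} {L : List (List (Fin 2))}
    {k : Fin 2} (hi : (i, L) ∈ ([(0, [[], [1]]), (1, [[], [0]])] : List (ℕ × List (List (Fin 2)))))
    (hpos : ∀ h : i < chevF4.rank, 0 < sx p ⟨i, h⟩) (hk : ∀ V ∈ L, ∀ j ∈ V, j = k)
    {W : List (Fin 2)} (hW : act2 W p = p) : (DT).nW W ∈ (DT).par1 [k] := by
  obtain ⟨V, hV, hA⟩ := exists_rep W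
  have hfix : actx chevF4 (wl V) (sx p) = sx p := by rw [actx_sx, ← act2_congr hA, hW]
  have h := List.all_eq_true.1 move_ok _ hi
  simp only [List.all_eq_true, Bool.or_eq_true, decide_eq_true_eq, List.any_eq_true, Bool.and_eq_true,
    Bool.not_eq_true', decide_eq_false_iff_not] at h
  have hVL : V ∈ L := by
    refine (h V hV).resolve_right ?_
    rintro ⟨r, -, ⟨hr, hc⟩, hneg⟩
    have hnn : ∀ s : Fin MT.tab.n, MT.S.pos s → ∀ j : Fin chevF4.rank,
        0 ≤ (ChevCore.coef chevF4 s.val j.val : ℝ) := fun s hs j => by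
      have hp := (MT.pos_val s).1 hs
      exact_mod_cast goodF.coef_nonneg (MT.lt s) ((goodF.isPosRoot_iff (MT.lt s)).1 hp) j.isLt
    have hi' : i < chevF4.rank := by
      rcases List.mem_cons.1 hi with h | h
      · cases h; decide
      · rw [List.mem_singleton] at h; cases h; decide
    have h1 : 0 < lam (sx p) r.val :=
      Finset.sum_pos' (fun j _ => mul_nonneg (hnn r hr j) (sx_nonneg ha hb j))
        ⟨⟨i, hi'⟩, Finset.mem_univ _, mul_pos (by exact_mod_cast hc) (hpos hi')⟩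
    have h2 := lam_actx' goodF (wl_lt V) (MT.lt r) (sx p)
    rw [hfix, wl, actW_val] at h2
    set s := MT.S.actw (fd.O.word V) r with hs
    have h3 : 0 ≤ lam (sx p) (MT.S.neg s).val :=
      Finset.sum_nonneg fun j _ =>
        mul_nonneg (hnn _ ((MT.S.pos_or_neg s).resolve_left hneg) j) (sx_nonneg ha hb j)
    rw [MT.neg_eq, lam_neg goodF _ (MT.lt s), h2] at h3
    linarith
  have hmem : (DT).nW V ∈ (DT).par1 [k] :=
    (DT).nW_mem_par1 fun j hj => by simp [hk V hVL j hj]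
  have e := (DT).cell_nW_congr ((DT).B1_le_par1 [k]) hA
  rw [QuotientGroup.eq] at e
  have := mul_mem hmem (inv_mem e)
  simpa using this

theorem card_G1 : Nat.card ↥G₁ =
    (2 ^ (2 * m + 1)) ^ 12 * (2 ^ (2 * m + 1) - 1) * ((2 ^ (2 * m + 1)) ^ 3 + 1) *
      ((2 ^ (2 * m + 1)) ^ 4 - 1) * ((2 ^ (2 * m + 1)) ^ 6 + 1) :=
  (Nat.card_congr (genEquiv MT K _).toEquiv).trans (card_G Z hK)

theorem card_U1' : Nat.card ↥(DT).U1 = (2 ^ (2 * m + 1)) ^ 12 := by
  rw [(DT).card_U1 (MT.shapeR K) ((gens Z hK).longest long_ok)]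
  simp only [W0, List.map_cons, List.map_nil, List.prod_cons, List.prod_nil, card_X0 Z hK, card_X1 Z hK]
  ring

/-- A two-element is conjugate into `U₁`. -/
theorem exists_conj_U1 (a : ↥G₁) {j : ℕ} (ha : a ^ 2 ^ j = 1) :
    ∃ g : ↥G₁, ((g⁻¹ * a * g : ↥G₁) : ↥(chevF4.group F)) ∈ (MT.rel K).U := by
  haveI : Fact (Nat.Prime 2) := ⟨Nat.prime_two⟩
  let P : Subgroup ↥G₁ := (DT).U1.subgroupOf G₁
  have hP : Nat.card ↥P = 2 ^ ((2 * m + 1) * 12) := by
    refine ((Nat.card_congr (Subgroup.subgroupOfEquivOfLe (inf_le_left : (DT).U1 ≤ G₁)).toEquiv).trans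
      (card_U1' Z hK)).trans ?_
    rw [← pow_mul]
  have hPp : IsPGroup 2 ↥P := IsPGroup.of_card hP
  have hidx : ¬ 2 ∣ P.index := by
    have h1 := P.card_mul_index
    rw [hP, card_G1 Z hK, ← pow_mul] at h1
    simp only [mul_assoc] at h1
    rw [Nat.eq_of_mul_eq_mul_left (Nat.two_pow_pos _) h1]
    have key : ∀ i, 1 ≤ i → Even ((2 ^ (2 * m + 1)) ^ i) ∧ 1 ≤ (2 ^ (2 * m + 1)) ^ i := fun i hi =>
      ⟨by simp [Nat.even_pow]; omega, Nat.one_le_pow _ _ (by positivity)⟩
    have k1 := key 1 le_rfl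
    have k3 := key 3 (by norm_num)
    have k4 := key 4 (by norm_num)
    have k6 := key 6 (by norm_num)
    rw [pow_one] at k1
    simp only [Nat.even_iff] at k1 k3 k4 k6
    simp only [Nat.prime_two.dvd_mul, not_or]
    refine ⟨?_, ?_, ?_, ?_⟩ <;> omega
  haveI : Finite ↥G₁ := inferInstance
  have hz : IsPGroup 2 ↥(Subgroup.zpowers a) := by
    rintro ⟨x, hx⟩
    obtain ⟨i, rfl⟩ := Subgroup.mem_zpowers_iff.1 hx
    refine ⟨j, Subtype.ext ?_⟩
    show (a ^ i) ^ 2 ^ j = 1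
    rw [← zpow_natCast, ← _root_.zpow_mul, mul_comm, _root_.zpow_mul, zpow_natCast, ha, _root_.one_zpow]
  obtain ⟨S, hS⟩ := hz.exists_le_sylow
  obtain ⟨g, hg⟩ := MulAction.exists_smul_eq ↥G₁ S (hPp.toSylow hidx)
  refine ⟨g⁻¹, ?_⟩
  have h2 : MulAut.conj g a ∈ ((g • S : Sylow 2 ↥G₁) : Subgroup ↥G₁) :=
    Subgroup.mem_map_of_mem (MulAut.conj g : ↥G₁ ≃* ↥G₁).toMonoidHom (hS (Subgroup.mem_zpowers a))
  rw [hg, MulAut.conj_apply] at h2
  rw [inv_inv]
  exact (Subgroup.mem_inf.1 (Subgroup.mem_subgroupOf.1 h2)).2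

/-- Borel–Tits -/
theorem twoElement_centralizer (a : ↥G₁) (ha1 : a ≠ 1) {j : ℕ} (ha : a ^ 2 ^ j = 1) :
    ∃ g : ↥G₁, ∃ k : Fin 2, ∀ b : ↥G₁, Commute a b →
      ((g⁻¹ * b * g : ↥G₁) : ↥(chevF4.group F)) ∈ (DT).par1 [k] := by
  classical
  have hs := ChevCore.chkSupp_of_mem (D := chevF4) (by simp)
  let Q : Set (GL chevF4.Idx F) := {((a : ↥(chevF4.group F)) : GL chevF4.Idx F)}
  let em : ↥G₁ → GL chevF4.Idx F := fun g => ((g : ↥(chevF4.group F)) : GL chevF4.Idx F)
  have hQne : ∃ u ∈ Q, u ≠ 1 :=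
    ⟨_, rfl, fun h => ha1 (Subtype.ext (Subtype.ext (by simpa using h)))⟩
  have hne := fun f => pairs_nonempty (Q := Q) f hQne
  let score : GL chevF4.Idx F → ℝ × ℝ → ℝ := fun f p =>
    (pairs Q f).inf' (hne f) fun ab => ChevBT.wv (sx p) ab.1 - ChevBT.wv (sx p) ab.2
  have hdeg : ∀ f p c, c ≤ score f p ↔ Deg Q f (sx p) c := fun f p c => Finset.le_inf'_iff _ _
  let S0 : Set (ℝ × ℝ) := {p | (0 ≤ p.1 ∧ 0 ≤ p.2) ∧ qn (sx p) = 1}
  have hSc : IsCompact S0 := by
    refine ((isCompact_Icc (a := (0 : ℝ)) (b := 1)).prod (isCompact_Icc (a := (0 : ℝ)) (b := 1))).of_isClosed_subset ?_ ?_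
    · have e : S0 = ({p | 0 ≤ p.1} ∩ {p | 0 ≤ p.2}) ∩ {p | qn (sx p) = 1} := by ext p; simp [S0]
      rw [e]
      refine ((isClosed_le continuous_const continuous_fst).inter
        (isClosed_le continuous_const continuous_snd)).inter (isClosed_eq ?_ continuous_const)
      unfold qn lam
      refine continuous_finsetSum _ fun s _ => (continuous_finsetSum _ fun i _ => ?_).pow 2
      refine continuous_const.mul ?_
      revert i
      refine forall_rank ?_ ?_ ?_ ?_ <;> simp [sx] <;> fun_prop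
    · rintro p ⟨⟨h1, h2⟩, h3⟩
      have l1 := sq_le_qn goodF (sx p) ⟨0, by decide⟩
      have l2 := sq_le_qn goodF (sx p) ⟨1, by decide⟩
      rw [h3] at l1 l2
      simp [sx, abs_of_nonneg h1, abs_of_nonneg h2] at l1 l2
      exact ⟨⟨h1, l1⟩, ⟨h2, l2⟩⟩
  have hnorm : ∀ p : ℝ × ℝ, 0 ≤ p.1 → 0 ≤ p.2 → sx p ≠ 0 →
      ((Real.sqrt (qn (sx p)))⁻¹ • p) ∈ S0 := by
    intro p h1 h2 hp
    have hq := qn_pos goodF hp
    refine ⟨⟨?_, ?_⟩, ?_⟩
    · show 0 ≤ (Real.sqrt (qn (sx p)))⁻¹ * p.1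
      positivity
    · show 0 ≤ (Real.sqrt (qn (sx p)))⁻¹ * p.2
      positivity
    · rw [sx_smul, qn_smul, inv_pow, Real.sq_sqrt hq.le, inv_mul_cancel₀ hq.ne']
  have hp₁ne : sx ((1 : ℝ), (1 : ℝ)) ≠ 0 := fun h => by
    simpa [sx] using congrFun h ⟨0, by decide⟩
  set p₁ := (Real.sqrt (qn (sx ((1 : ℝ), (1 : ℝ)))))⁻¹ • ((1 : ℝ), (1 : ℝ)) with hp₁def
  have hp₁ : p₁ ∈ S0 := hnorm _ zero_le_one zero_le_one hp₁ne
  have hcont : ∀ f, Continuous (score f) := fun f => by
    refine Continuous.finset_inf'_apply _ fun ab _ => ?_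
    unfold ChevBT.wv
    refine (continuous_finsetSum _ fun i _ => ?_).sub (continuous_finsetSum _ fun i _ => ?_) <;>
      (refine continuous_const.mul ?_; revert i; refine forall_rank ?_ ?_ ?_ ?_ <;> simp [sx] <;> fun_prop)
  choose pm hpmS hpmMax using fun g : ↥G₁ =>
    hSc.exists_isMaxOn ⟨p₁, hp₁⟩ (hcont (em g)).continuousOn
  obtain ⟨gm, hgm⟩ := Finite.exists_max fun g : ↥G₁ => score (em g) (pm g)
  set M := score (em gm) (pm gm) with hM
  have hmax : ∀ (g : ↥G₁) p, p ∈ S0 → score (em g) p ≤ M := fun g p hp => le_trans (hpmMax g hp) (hgm g)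
  have hMpos : 0 < M := by
    obtain ⟨g₀, hg₀⟩ := exists_conj_U1 Z hK a ha
    refine lt_of_lt_of_le ?_ (hmax g₀ p₁ hp₁)
    rw [Finset.lt_inf'_iff]
    rintro ⟨u, v⟩ huv
    obtain ⟨y, rfl, hne'⟩ := mem_pairs.1 huv
    have h1 : (em g₀)⁻¹ * ((a : ↥(chevF4.group F)) : GL chevF4.Idx F) * em g₀ ∈ chevF4.posUnipotent F := by
      rw [← MT.U_map K]
      exact ⟨_, hg₀, by simp [em]⟩
    have hlt : ∀ r, chevF4.IsPosRoot r → 0 < lam (sx p₁) r := by
      intro r hr
      have hrl : r < chevF4.nroots := hr.1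
      have hrp := (goodF.isPosRoot_iff hrl).1 hr
      have hxpos : ∀ i : Fin chevF4.rank, 0 < sx p₁ i := by
        have hq := qn_pos goodF hp₁ne
        refine forall_rank ?_ ?_ ?_ ?_ <;> simp [sx, hp₁def] <;> positivity
      obtain ⟨i, hi, hne0⟩ : ∃ i, i < chevF4.rank ∧ 0 < ChevCore.coef chevF4 r i := by
        by_contra hno
        have h0 := goodF.ht_eq hrl
        rw [Finset.sum_eq_zero fun i hi => le_antisymm
          (not_lt.1 fun h => hno ⟨i, Finset.mem_range.1 hi, h⟩)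
          (goodF.coef_nonneg hrl hrp (Finset.mem_range.1 hi))] at h0
        omega
      exact Finset.sum_pos' (fun j _ => mul_nonneg (by exact_mod_cast goodF.coef_nonneg hrl hrp j.isLt)
        (hxpos j).le) ⟨⟨i, hi⟩, Finset.mem_univ _, mul_pos (by exact_mod_cast hne0) (hxpos _)⟩
    have h2 : ChevCore.SuppRel (fun a k => 0 < ChevBT.wv (sx p₁) a - ChevBT.wv (sx p₁) k)
        ((em g₀)⁻¹ * ((a : ↥(chevF4.group F)) : GL chevF4.Idx F) * em g₀ : GL chevF4.Idx F).val := by
      refine ChevCore.suppRel_of_closure (fun a b c h1 h2 => by linarith) ?_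
        (show _ ∈ Subgroup.closure {g | ∃ r t, chevF4.IsPosRoot r ∧ g = ChevCore.xg chevF4 F r t} from ?_)
      · rintro y ⟨r, t, hr, rfl⟩
        have hrl : r < chevF4.nroots := hr.1
        have key : ∀ t : F, ChevCore.SuppRel (fun a k => 0 < ChevBT.wv (sx p₁) a - ChevBT.wv (sx p₁) k)
            (ChevCore.xg chevF4 F r t : Matrix chevF4.Idx chevF4.Idx F) := fun t =>
          ChevBT.supp_root goodF hrl (fun a b k hk e => by
            rw [e]
            have : (0 : ℝ) < k := by exact_mod_cast hk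
            have := hlt r hr
            positivity) t
        exact ⟨key t, by rw [goodF.xg_inv]; exact key (-t)⟩
      · rw [ChevalleyDatum.posUnipotent] at h1
        refine Subgroup.closure_mono ?_ h1
        rintro g ⟨r, t, hr, he⟩
        exact ⟨r, t, hr, Units.ext (by rw [he, goodF.val_xg])⟩
    by_contra hle
    refine hne' ?_
    have := h2 u v hle
    simpa using this
  obtain ⟨⟨hpa, hpb⟩, hpq⟩ := hpmS gm
  set p := pm gm with hpdef
  have hB : ∀ {b : ↥(chevF4.group F)}, b ∈ (DT).B1 → ∀ {q : ℝ × ℝ}, 0 ≤ q.1 → 0 ≤ q.2 →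
      Ent (GeW (sx q) 0) ((b : GL chevF4.Idx F) : Matrix chevF4.Idx chevF4.Idx F) := fun hb q h1 h2 =>
    parabolic_ent goodF hs (sx_nonneg h1 h2) (borel_le_parabolic (borel_of_B1 Z hK hb))
  have hwin : ∀ g' : ↥G₁, M ≤ score (em g') p → ∃ b ∈ (DT).B1, ∃ b' ∈ (DT).B1, ∃ W, act2 W p = p ∧
      ((gm⁻¹ * g' : ↥G₁) : ↥(chevF4.group F)) = b * (DT).nW W * b' := by
    intro g' hg'
    obtain ⟨W, hW⟩ := (DT).exists_bruhat (MT.shapeR K) ((gens Z hK).longest long_ok) (gens Z hK).split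
      (gm⁻¹ * g').2
    obtain ⟨b, hb, e⟩ := mem_cell.1 hW
    rw [QuotientGroup.eq] at e
    set b' := (b * (DT).nW W)⁻¹ * ((gm⁻¹ * g' : ↥G₁) : ↥(chevF4.group F)) with hb'
    have eg : ((gm⁻¹ * g' : ↥G₁) : ↥(chevF4.group F)) = b * (DT).nW W * b' := by
      rw [hb']; group
    refine ⟨b, hb, b', e, W, ?_, eg⟩
    set f : GL chevF4.Idx F := em gm * (b : GL chevF4.Idx F) with hf
    have d1 : Deg Q f (sx p) M := deg_right ((hdeg _ _ _).1 le_rfl) (hB hb hpa hpb)
      (hB (inv_mem hb) hpa hpb)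
    set n : GL chevF4.Idx F := (((DT).nW W : ↥(chevF4.group F)) : GL chevF4.Idx F) with hn
    have e' : em g' * ((b' : GL chevF4.Idx F))⁻¹ = f * n := by
      have h1 := congrArg (fun x : ↥(chevF4.group F) => (x : GL chevF4.Idx F)) eg
      simp only [Subgroup.coe_mul, Subgroup.coe_inv] at h1
      rw [hf, hn, show em g' = em gm * ((em gm)⁻¹ * em g') by group]
      simp only [em] at h1 ⊢
      rw [h1]
      group
    have d2 : Deg Q (f * n) (sx p) M := by
      rw [← e']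
      exact deg_right ((hdeg _ _ _).1 hg') (by simpa using hB (inv_mem e) hpa hpb)
        (by simpa using hB e hpa hpb)
    have d3 : Deg Q f (sx (act2 W p)) M := by
      rw [← actx_sx]
      exact deg_mono d2 (nW_ent Z hK W (sx p))
    by_contra hxy
    set μ := (1 / 2 : ℝ) • (p + act2 W p) with hμ
    have hq : qn (sx μ) < 1 := by
      rw [hμ, sx_smul, sx_add]
      exact qn_avg goodF hpq (by rw [← actx_sx, qn_actx goodF (wl_lt W)]; exact hpq)
        fun h => hxy (sx_inj h).symm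
    have d4 : Deg Q f (sx μ) M := fun ab hab => by
      have h1 := d1 ab hab
      have h2 := d3 ab hab
      have e1 : ∀ k, ChevBT.wv (sx μ) k = (1 / 2) * (ChevBT.wv (sx p) k + ChevBT.wv (sx (act2 W p)) k) := fun k => by
        rw [hμ, sx_smul, wv_smul, sx_add]
        simp [ChevBT.wv, mul_add, Finset.sum_add_distrib]
      rw [e1, e1]
      linarith
    obtain ⟨V, hv1, hv2⟩ := exists_dom μ
    set nv : GL chevF4.Idx F := (((DT).nW V : ↥(chevF4.group F)) : GL chevF4.Idx F) with hnv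
    have d5 : Deg Q (f * nv⁻¹) (sx (act2 V μ)) M := by
      rw [← actx_sx]
      exact deg_mono (n := nv) (by rwa [inv_mul_cancel_right]) (nW_ent Z hK V (sx μ))
    set z := act2 V μ with hz
    have hzne : sx z ≠ 0 := by
      intro h0
      obtain ⟨ab, hab⟩ := hne (f * nv⁻¹)
      have := d5 ab hab
      rw [h0] at this
      simp [ChevBT.wv] at this
      linarith
    have hqz := qn_pos goodF hzne
    have hqz' : qn (sx z) < 1 := by rw [hz, ← actx_sx, qn_actx goodF (wl_lt V)]; exact hq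
    let g'' : ↥G₁ := gm * ⟨b, hb.1⟩ * (⟨(DT).nW V, (DT).nW_mem V⟩ : ↥G₁)⁻¹
    have h6 : (Real.sqrt (qn (sx z)))⁻¹ * M ≤
        score (em g'') ((Real.sqrt (qn (sx z)))⁻¹ • z) := by
      rw [hdeg, show em g'' = f * nv⁻¹ by simp [em, g'', f, nv]]
      intro ab hab
      rw [sx_smul, wv_smul, wv_smul, ← mul_sub]
      exact mul_le_mul_of_nonneg_left (d5 ab hab) (by positivity)
    have h7 : M < (Real.sqrt (qn (sx z)))⁻¹ * M := by
      have h8 : Real.sqrt (qn (sx z)) < 1 := by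
        rw [Real.sqrt_lt' one_pos]; simpa using hqz'
      exact lt_mul_of_one_lt_left hMpos ((one_lt_inv₀ (Real.sqrt_pos.2 hqz)).2 h8)
    have := hmax g'' _ (hnorm z hv1 hv2 hzne)
    linarith
  have hpne : p.1 ≠ 0 ∨ p.2 ≠ 0 := by
    by_contra h
    simp only [not_or, not_not] at h
    have hp0 : sx p = 0 := by
      refine funext (forall_rank ?_ ?_ ?_ ?_) <;> simp [sx, h.1, h.2]
    rw [hp0] at hpq
    simp [qn, lam] at hpq
  obtain ⟨k, hk⟩ : ∃ k : Fin 2, ∀ W, act2 W p = p → (DT).nW W ∈ (DT).par1 [k] := by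
    by_cases h0 : p.1 = 0
    · refine ⟨0, fun W hW => nW_mem_of_fix Z hK hpa hpb (i := 1) (L := [[], [0]]) (by simp)
        (fun _ => ?_) (by simp) hW⟩
      show 0 < p.2
      exact lt_of_le_of_ne hpb (Ne.symm (hpne.resolve_left fun h => h h0))
    · refine ⟨1, fun W hW => nW_mem_of_fix Z hK hpa hpb (i := 0) (L := [[], [1]]) (by simp)
        (fun _ => ?_) (by simp) hW⟩
      show 0 < p.1
      exact lt_of_le_of_ne hpa (Ne.symm h0)
  refine ⟨gm, k, fun n hn => ?_⟩
  have hpairs : pairs Q (em (n * gm)) = pairs Q (em gm) := by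
    have hc : em a * em n = em n * em a := congrArg em hn.eq
    have he : (em (n * gm))⁻¹ * em a * em (n * gm) = (em gm)⁻¹ * em a * em gm := by
      rw [show em (n * gm) = em n * em gm from rfl]
      calc (em n * em gm)⁻¹ * em a * (em n * em gm)
          = (em gm)⁻¹ * ((em n)⁻¹ * (em a * em n)) * em gm := by group
        _ = _ := by rw [hc]; group
    ext ⟨u, v⟩
    rw [mem_pairs, mem_pairs]
    constructor <;> rintro ⟨y, rfl, h⟩ <;> refine ⟨_, rfl, ?_⟩
    · change (((em (n * gm))⁻¹ * em a * em (n * gm) : GL chevF4.Idx F).val - 1) u v ≠ 0 at h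
      rwa [he] at h
    · show (((em (n * gm))⁻¹ * em a * em (n * gm) : GL chevF4.Idx F).val - 1) u v ≠ 0
      rwa [he]
  obtain ⟨b, hb, b', hb', W, hW, e⟩ := hwin (n * gm) (le_of_eq (by simp only [score, hM, hpairs, hpdef]))
  rw [show gm⁻¹ * n * gm = gm⁻¹ * (n * gm) by group, e]
  exact mul_mem (mul_mem ((DT).B1_le_par1 _ hb) (hk W hW)) ((DT).B1_le_par1 _ hb')

/-- The primes dividing the orders of elements commuting with an involution. -/
theorem primeFactors_le (a b : ↥(twistedF4 F (2 ^ m))) (ha : orderOf a = 2) (hab : Commute a b) :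
    (orderOf b).primeFactors ⊆
      (2 ^ (2 * m + 1) * ((2 ^ (2 * m + 1)) ^ 4 - 1)).primeFactors := by
  let e := (genEquiv MT K (f4Words F (2 ^ m))).symm
  have hoa : orderOf (e a) = 2 := (MulEquiv.orderOf_eq e a).trans ha
  obtain ⟨g, k, hk⟩ := twoElement_centralizer Z hK (e a) (fun h => by simp [h] at hoa)
    (j := 1) (by simpa only [pow_one, hoa] using pow_orderOf_eq_one (e a))
  have hb := hk (e b) (hab.map e.toMonoidHom)
  set y := ((g⁻¹ * e b * g : ↥G₁) : ↥(chevF4.group F)) with hy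
  have hord : orderOf y = orderOf b := by
    rw [hy, Subgroup.orderOf_coe]
    refine Eq.trans ?_ (MulEquiv.orderOf_eq e b)
    have := MulEquiv.orderOf_eq (MulAut.conj g⁻¹) (e b)
    simpa [MulAut.conj_apply] using this
  have hdvd : orderOf b ∣ Nat.card ↥((DT).par1 [k]) := by
    rw [← hord, ← Subgroup.orderOf_mk (H := (DT).par1 [k]) y hb]
    exact orderOf_dvd_natCard _
  have hcard : Nat.card ↥((DT).par1 [k]) ∣
      ((2 ^ (2 * m + 1)) * ((2 ^ (2 * m + 1)) ^ 4 - 1)) ^ 12 := by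
    have hnil := (gens Z hK).card_par1_nil long_ok
    rw [card_H1 Z hK] at hnil
    simp only [W0, List.map_cons, List.map_nil, List.prod_cons, List.prod_nil, card_X0 Z hK, card_X1 Z hK] at hnil
    generalize hq : 2 ^ (2 * m + 1) = q at hnil ⊢
    have hq1 : 1 ≤ q := hq ▸ Nat.one_le_two_pow
    obtain ⟨c, rfl⟩ : ∃ c, q = c + 1 := ⟨q - 1, by omega⟩
    have h4 : (c + 1) ^ 4 - 1 = c * (c + 2) * ((c + 1) ^ 2 + 1) := by
      have : (c + 1) ^ 4 = c * (c + 2) * ((c + 1) ^ 2 + 1) + 1 := by ring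
      omega
    match k with
    | 0 =>
      rw [show ([0] : List (Fin 2)) = step1.KS from rfl, (gens Z hK).card_step long_ok step1_ok span1_ok,
        show step1.JS = [] from rfl, hnil]
      have s1 : (∑ x : Fin step1.m, ((step1.repF x).map fun k => Nat.card ((gens Z hK).data.X k)).prod) =
          1 + (c + 1) := by
        show (∑ x : Fin 2, _) = _
        simp [Fin.sum_univ_two, TStepData.repF, step1, card_X0 Z hK, hq]
      rw [s1, h4, Nat.add_sub_cancel]
      exact ⟨c ^ 10 * (c + 2) ^ 11 * ((c + 1) ^ 2 + 1) ^ 12, by ring⟩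
    | 1 =>
      rw [show ([1] : List (Fin 2)) = step1'.KS from rfl, (gens Z hK).card_step long_ok step1'_ok span1'_ok,
        show step1'.JS = [] from rfl, hnil]
      have s1 : (∑ x : Fin step1'.m, ((step1'.repF x).map fun k => Nat.card ((gens Z hK).data.X k)).prod) =
          1 + (c + 1) ^ 2 := by
        show (∑ x : Fin 2, _) = _
        simp [Fin.sum_univ_two, TStepData.repF, step1', card_X1 Z hK, hq]
      rw [s1, h4, Nat.add_sub_cancel]
      exact ⟨c ^ 10 * (c + 2) ^ 12 * ((c + 1) ^ 2 + 1) ^ 11, by ring⟩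
  intro r hr
  obtain ⟨hrp, hrd, -⟩ := Nat.mem_primeFactors.1 hr
  have h0 : 2 ^ (2 * m + 1) * ((2 ^ (2 * m + 1)) ^ 4 - 1) ≠ 0 := by
    have : 2 ≤ (2 ^ (2 * m + 1)) ^ 4 :=
      le_trans (le_self_pow₀ one_le_two (by omega)) (Nat.le_self_pow (by norm_num) _)
    exact Nat.mul_ne_zero (by positivity) (by omega)
  exact Nat.mem_primeFactors.2 ⟨hrp, hrp.dvd_of_dvd_pow ((hrd.trans hdvd).trans hcard), h0⟩

end Cfsg.Agent.Twisted.TypeF4
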