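import Cfsg.Agent.Twisted.F4BT.Reps
import Cfsg.Agent.Twisted.Tits.Main

/-!
The derived subgroup of the twisted group of type F4 over two elements fuses involutions as the whole group
does: every representative centralises an element outside it.
-/

set_option autoImplicit false
set_option maxRecDepth 4000

namespace Cfsg.Agent.Twisted.Tits

open Cfsg.Lie ChevGroup TypeF4

local notation "KK" => relsOfCommGood ChevCore.commGoodF4 (ZMod 2)
local notation "G₁" => genG MT KK (f4Words (ZMod 2) (2 ^ 0))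

theorem pairW'_eq (t : ZMod 2) : nj fr 0 * pairW KK 0 t * (nj fr 0)⁻¹ = pairW' KK 0 t := by
  haveI := charTwo card_two
  let v : ℕ → ZMod 2 := upd 0 (fun _ => 0) t 0
  have e := nj_conj_evw fr card_two 0 v (rayW 1 9)
  rw [evw_pair fr card_two v 9 (by simp [v, upd]), show v (4 * 9 + 1) = t by simp [v, upd],
    show mapW' 0 (rayW 1 9) = [(14, [[36]]), (23, [[37]])] by decide +kernel] at e
  rw [e, ← (wv_pairW fr t).2]
  simp [evw, f4PairWord, f4m1, f4m4, PolyWord.pev, PolyWord.mev, v, upd]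

theorem clsW'_eq (t u : ZMod 2) : nj fr 1 * clsW KK 0 t u * (nj fr 1)⁻¹ = clsW' KK 0 t u := by
  haveI := charTwo card_two
  let v : ℕ → ZMod 2 := upd 0 (fun _ => 0) t u
  have e := nj_conj_evw fr card_two 1 v (rayW 8 9)
  rw [evw_cls fr card_two v 9 (by simp [v, upd]) (by simp [v, upd]), show v (4 * 9 + 1) = t by simp [v, upd],
    show v (4 * 9 + 2) = u by simp [v, upd],
    show mapW' 1 (rayW 8 9) = [(20, [[36]]), (22, [[37]]), (19, [[36, 37], [38]]), (17, [[39]])] by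
      decide +kernel] at e
  rw [e, ← (wv_clsW fr t u).2]
  simp [evw, b2ClassWord, f4ma, f4mb, f4mab, f4maab, PolyWord.pev, PolyWord.mev, v, upd, pow_two]

/-- the abelianisation is generated by the image of one element -/
theorem ab_cover : ∃ γ : Abelianization ↥G₁, γ * γ = 1 ∧
    (∀ g : ↥G₁, Abelianization.of g = 1 ∨ Abelianization.of g = γ) ∧
    (∀ (k : Fin 2) (p : Bool × List (Fin MT.tab.n)), ∀ hp : p ∈ xw k,
      ab _ (xw_mem k hp) = if p.1 then γ else 1) := by
  obtain ⟨γ, hγ, hx⟩ := ab_xw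
  refine ⟨γ, hγ, ?_, hx⟩
  let C : Subgroup (Abelianization ↥G₁) :=
    { carrier := {a | a = 1 ∨ a = γ}
      one_mem' := Or.inl rfl
      mul_mem' := by rintro a b (rfl | rfl) (rfl | rfl) <;> simp [hγ]
      inv_mem' := by
        rintro a (rfl | rfl)
        · simp
        · exact Or.inr (inv_eq_of_mul_eq_one_right hγ) }
  have hX : ∀ (k : Fin 2) (a : ↥G₁), (a : ↥(chevF4.group (ZMod 2))) ∈ (gens fr card_two).data.X k →
      Abelianization.of a ∈ C := by
    intro k a ha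
    obtain ⟨p, hp, e⟩ := xw_spec k ha
    have : Abelianization.of a = ab _ (xw_mem k hp) := ab_congr e a.2 (xw_mem k hp)
    rw [this, hx k p hp]
    cases p.1
    · exact Or.inl rfl
    · exact Or.inr rfl
  have hN : ∀ (k : Fin 2) (a b : ↥G₁),
      nj fr k * (a : ↥(chevF4.group (ZMod 2))) * (nj fr k)⁻¹ = b →
      Abelianization.of a ∈ C → Abelianization.of b ∈ C := by
    intro k a b e ha
    obtain rfl : (⟨nj fr k, (gens fr card_two).nj_mem k⟩ : ↥G₁) * a *
        (⟨nj fr k, (gens fr card_two).nj_mem k⟩ : ↥G₁)⁻¹ = b := Subtype.ext e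
    rwa [map_mul, map_mul, map_inv, mul_comm, inv_mul_cancel_left]
  intro g
  have htop : (⊤ : Subgroup ↥G₁) ≤ C.comap Abelianization.of := by
    refine le_trans (le_of_eq (Subgroup.closure_closure_coe_preimage (k := wv MT KK '' f4Words (ZMod 2) (2 ^ 0))).symm) ?_
    refine (Subgroup.closure_le _).2 ?_
    rintro ⟨a, haG⟩ ⟨w, hw, he⟩
    change Abelianization.of (⟨a, haG⟩ : ↥G₁) ∈ C
    change wv MT KK w = a at he
    rcases hw with ⟨t, rfl | rfl⟩ | ⟨t, u, rfl | rfl⟩
    · exact hX 0 _ (by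
        show a ∈ _
        rw [← he, (wv_pairW fr t).1]; exact pairW_mem_X fr card_two t)
    · refine hN 0 ⟨pairW KK 0 t, (pairW_mem fr t).1⟩ _ ?_ (hX 0 _ (pairW_mem_X fr card_two t))
      show _ = a
      rw [← he, (wv_pairW fr t).2]; exact pairW'_eq t
    · exact hX 1 _ (by
        show a ∈ _
        rw [← he, (wv_clsW fr t u).1]; exact clsW_mem_X fr card_two t u)
    · refine hN 1 ⟨clsW KK 0 t u, (clsW_mem fr t u).1⟩ _ ?_ (hX 1 _ (clsW_mem_X fr card_two t u))
      show _ = a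
      rw [← he, (wv_clsW fr t u).2]; exact clsW'_eq t u
  exact htop (Subgroup.mem_top g)

theorem pairW_one_eq : pairW KK 0 (1 : ZMod 2) = ev [33, 24] := by simp [pairW, prodX, two, ev]

theorem clsW_one_eq : clsW KK 0 (0 : ZMod 2) 1 = ev [28, 30] := by
  simp [clsW, form, prodX, two, ev, x_zero']

/-- conjugate in the derived subgroup -/
theorem derived_conj {x r : ↥(chevF4.group (ZMod 2))} (h : Cj 0 KK x r)
    (hr : r = pairW KK 0 1 ∨ r = clsW KK 0 0 1) :
    ∃ c : ↥G₁, c ∈ commutator ↥G₁ ∧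
      (c : ↥(chevF4.group (ZMod 2))) * x * (c : ↥(chevF4.group (ZMod 2)))⁻¹ = r := by
  obtain ⟨γ, hγ, hcov, hx⟩ := ab_cover
  obtain ⟨z, hzγ, hzr⟩ : ∃ z : ↥G₁, Abelianization.of z = γ ∧
      (z : ↥(chevF4.group (ZMod 2))) * r = r * z := by
    have hg : ev [27, 25, 28] ∈ G₁ := xw_mem 1 (p := (true, [27, 25, 28])) (by decide)
    have eg : ab _ hg = γ := hx 1 (true, [27, 25, 28]) (by decide)
    rcases hr with rfl | rfl
    · obtain ⟨h', e'⟩ := ab_conj 0 hg
      refine ⟨⟨_, h'⟩, e'.trans eg, ?_⟩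
      show ev (List.map (pfl 0) [27, 25, 28]) * _ = _ * ev (List.map (pfl 0) [27, 25, 28])
      rw [pairW_one_eq, ← ev_append, ← ev_append]
      exact ev_congr (by decide +kernel)
    · refine ⟨⟨_, hg⟩, eg, ?_⟩
      show ev [27, 25, 28] * _ = _ * ev [27, 25, 28]
      rw [clsW_one_eq, ← ev_append, ← ev_append]
      exact ev_congr (by decide +kernel)
  obtain ⟨g, hg, e⟩ := h
  rcases hcov ⟨g, hg⟩ with h1 | h1
  · exact ⟨⟨g, hg⟩, by rw [← Abelianization.ker_of, MonoidHom.mem_ker]; exact h1, e⟩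
  · refine ⟨z * ⟨g, hg⟩, by rw [← Abelianization.ker_of, MonoidHom.mem_ker, map_mul, hzγ, h1, hγ], ?_⟩
    show (z : ↥(chevF4.group (ZMod 2))) * g * x * ((z : ↥(chevF4.group (ZMod 2))) * g)⁻¹ = r
    calc (z : ↥(chevF4.group (ZMod 2))) * g * x * ((z : ↥(chevF4.group (ZMod 2))) * g)⁻¹
        = (z : ↥(chevF4.group (ZMod 2))) * (g * x * g⁻¹) * (z : ↥(chevF4.group (ZMod 2)))⁻¹ := by group
      _ = r := by rw [e, hzr, mul_inv_cancel_right]

/-- conjugate in the derived subgroup, at the level of the twisted group -/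
theorem derived_conj' {x r c : ↥G₁} (h : c * x * c⁻¹ = r)
    (hr : (r : ↥(chevF4.group (ZMod 2))) = pairW KK 0 1 ∨ (r : ↥(chevF4.group (ZMod 2))) = clsW KK 0 0 1) :
    ∃ d ∈ commutator ↥G₁, d * x * d⁻¹ = r := by
  have h' : Cj 0 KK (x : ↥(chevF4.group (ZMod 2))) (r : ↥(chevF4.group (ZMod 2))) := by
    refine ⟨(c : ↥(chevF4.group (ZMod 2))), c.2, ?_⟩
    rw [← h, Subgroup.coe_mul, Subgroup.coe_mul, Subgroup.coe_inv]
  obtain ⟨d, hd, he⟩ := derived_conj h' hr
  refine ⟨d, hd, Subtype.ext ?_⟩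
  rw [Subgroup.coe_mul, Subgroup.coe_mul, Subgroup.coe_inv]
  exact he

end Cfsg.Agent.Twisted.Tits
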