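import Cfsg.Agent.Twisted.PolyWord
import Cfsg.Agent.Twisted.Groups.F4Inst

/-!
Coordinates on the positive unipotent subgroup of the group of type twisted F4: eight rays, each with the
parameters of its root group, and the tools that read a coordinate from a matrix entry.
-/

set_option autoImplicit false
set_option maxRecDepth 4000
set_option maxHeartbeats 800000

namespace Cfsg.Agent.Twisted.TypeF4

open ChevGroup ChevIsogeny Cfsg.Lie PolyWord

/-- the roots of the eight rays -/
def rayR (i : ℕ) : List ℕ :=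
  ([[33, 24], [34, 26, 36, 42], [38, 43], [29, 41, 44, 47], [39, 45], [35, 31, 40, 46], [37, 32],
    [27, 25, 28, 30]] : List (List ℕ)).getD (i - 1) []

/-- the parameters of a root group with variables in a slot -/
def slotP (big : Bool) (s : ℕ) : List Pol :=
  if big then [[[4 * s]], [[4 * s + 1]], [[4 * s, 4 * s + 1], [4 * s + 2]], [[4 * s + 3]]]
  else [[[4 * s]], [[4 * s + 1]]]

/-- the word of a ray with variables in a slot -/
def rayW (i s : ℕ) : List (ℕ × Pol) := (rayR i).zip (slotP (i % 2 == 0) s)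

/-- the word of the positive unipotent subgroup -/
def UW : List (ℕ × Pol) := [8, 7, 6, 5, 4, 3, 2, 1].flatMap fun i => rayW i i

/-- the orbit reflections on roots -/
def pfN (k : Fin 2) (r : ℕ) : ℕ :=
  if h : r < MT.tab.n then (MT.S.actw (fd.O.wd k) ⟨r, h⟩).val else r

/-- move the roots of a word -/
def mapW' (k : Fin 2) (w : List (ℕ × Pol)) : List (ℕ × Pol) := w.map fun rp => (pfN k rp.1, rp.2)

/-- drop the variables of a list -/
def zw (Z : List ℕ) (w : List (ℕ × Pol)) : List (ℕ × Pol) :=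
  (w.map fun rp => (rp.1, rp.2.filter fun m => m.all fun x => decide (x ∉ Z))).filter fun rp => !rp.2.isEmpty

/-- the base word of an orbit -/
def baseW (k : Fin 2) (s : ℕ) : List (ℕ × Pol) := if k = 0 then rayW 1 s else rayW 8 s

/-- the word of `P W` -/
def wordsW : List (Fin 2) → List (ℕ × Pol)
  | [] => []
  | k :: W => baseW k (W.length + 1) ++ mapW' k (wordsW W)

theorem wordsW_W0 : wordsW W0 = UW := by decide +kernel

theorem UW_pos : UW.all (fun rp => decide (24 ≤ rp.1 ∧ rp.1 < 48)) = true := by decide +kernel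

theorem ray_map :
    mapW' 1 (rayW 1 9) = rayW 7 9 ∧ mapW' 0 (rayW 7 9) = rayW 3 9 ∧ mapW' 1 (rayW 3 9) = rayW 5 9 ∧
    mapW' 0 (rayW 8 9) = rayW 2 9 ∧ mapW' 1 (rayW 2 9) = rayW 6 9 ∧ mapW' 0 (rayW 6 9) = rayW 4 9 := by
  decide +kernel

variable {F : Type*} [Field F] [Fintype F] {m : ℕ} {K : Rels chevF4 F}
  (Z : Frame (T := MT) K PP (2 ^ m) fd) (hK : Fintype.card F = 2 ^ (2 * m + 1))

set_option quotPrecheck false in
local notation "G₁" => genG MT K (f4Words F (2 ^ m))

set_option quotPrecheck false in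
local notation "DT" => (gens Z hK).data

variable (K) in
/-- the value of a word -/
def evw (v : ℕ → F) (w : List (ℕ × Pol)) : ↥(chevF4.group F) :=
  Twisted.wv MT K (w.map fun rp => (rp.1, pev v rp.2))

/-- the parameters are those of the twisted group -/
def Tw (m : ℕ) (v : ℕ → F) : Prop :=
  ∀ i, v (4 * i) = v (4 * i + 1) ^ 2 ^ m ∧ v (4 * i + 3) = v (4 * i + 2) ^ (2 * 2 ^ m)

omit [Fintype F] in
theorem evw_append (v : ℕ → F) (a b : List (ℕ × Pol)) : evw K v (a ++ b) = evw K v a * evw K v b := by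
  simp [evw, Twisted.wv]

omit [Fintype F] in
theorem evw_cons (v : ℕ → F) (rp : ℕ × Pol) (b : List (ℕ × Pol)) :
    evw K v (rp :: b) = IsoHyp.xN MT K rp.1 (pev v rp.2) * evw K v b := by
  simp [evw, Twisted.wv]

omit [Fintype F] in
theorem evw_congr {v v' : ℕ → F} {w : List (ℕ × Pol)}
    (h : ∀ rp ∈ w, ∀ mon ∈ rp.2, ∀ x ∈ mon, v x = v' x) : evw K v w = evw K v' w := by
  unfold evw
  congr 1
  refine List.map_congr_left fun rp hrp => Prod.ext rfl ?_
  show pev v rp.2 = pev v' rp.2
  unfold pev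
  refine congrArg List.sum (List.map_congr_left fun mon hm => ?_)
  unfold mev
  exact congrArg List.prod (List.map_congr_left fun x hx => h rp hrp mon hm x hx)

omit [Fintype F] in
theorem evw_zw (v : ℕ → F) {Z' : List ℕ} (hZ : ∀ x ∈ Z', v x = 0) (w : List (ℕ × Pol)) :
    evw K v w = evw K v (zw Z' w) := by
  induction w with
  | nil => rfl
  | cons rp w ih =>
    have hp : ∀ p : Pol, pev v p = pev v (p.filter fun mon => mon.all fun x => decide (x ∉ Z')) := by
      intro p
      induction p with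
      | nil => rfl
      | cons mon p ihp =>
        rw [pev_cons, List.filter_cons]
        by_cases hm : (mon.all fun x => decide (x ∉ Z')) = true
        · rw [if_pos hm, pev_cons, ihp]
        · rw [if_neg hm, ← ihp]
          simp only [List.all_eq_true, decide_eq_true_eq, not_forall, not_not] at hm
          obtain ⟨x, hx, hxZ⟩ := hm
          have : mev v mon = 0 := List.prod_eq_zero (List.mem_map.2 ⟨x, hx, hZ x hxZ⟩)
          rw [this, zero_add]
    rw [evw_cons, ih, hp rp.2]
    simp only [zw, List.map_cons, List.filter_cons]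
    cases hl : rp.2.filter (fun mon => mon.all fun x => decide (x ∉ Z')) with
    | nil => simp [pev_nil, IsoHyp.xN_zero]
    | cons a l => simp [evw_cons]

omit [Fintype F] in
theorem mat_evw (v : ℕ → F) (w : List (ℕ × Pol)) :
    Model.mat (evw K v w) = chevF4.wordMat F (w.map fun rp => (rp.1, pev v rp.2)) := mat_wv _

omit [Fintype F] in
theorem entry [CharP F 2] {w : List (ℕ × Pol)} {a b : ℕ} {p : Pol}
    (h : entB chevF4 (ChevCore.fast chevF4 ChevCore.packedF4) w a b p = true) (v : ℕ → F)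
    (ia ib : chevF4.Idx) (ha : ChevCore.code chevF4 ia = a) (hb : ChevCore.code chevF4 ib = b) :
    Model.mat (evw K v w) ia ib = pev v p := by
  rw [mat_evw]
  exact entry_eq ChevCore.goodF4 ChevCore.chkLinkF4 h v ia ib ha hb

/-- two checked words with equal values give equal entries -/
noncomputable def readB (w₁ w₂ : List (ℕ × Pol)) (a b : ℕ) (p₁ p₂ : Pol) : Bool :=
  entB chevF4 (ChevCore.fast chevF4 ChevCore.packedF4) w₁ a b p₁ &&
    entB chevF4 (ChevCore.fast chevF4 ChevCore.packedF4) w₂ a b p₂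

omit [Fintype F] in
theorem read [CharP F 2] {w₁ w₂ : List (ℕ × Pol)} {v z : ℕ → F} (e : evw K v w₁ = evw K z w₂)
    {a b : ℕ} {p₁ p₂ : Pol} (ha : a < 52) (hb : b < 52) (h : readB w₁ w₂ a b p₁ p₂ = true) :
    pev v p₁ = pev z p₂ := by
  simp only [readB, Bool.and_eq_true] at h
  obtain ⟨ia, hia⟩ := ChevCore.exists_code_eq chevF4 (v := a) ha
  obtain ⟨ib, hib⟩ := ChevCore.exists_code_eq chevF4 (v := b) hb
  rw [← entry (K := K) h.1 v ia ib hia hib, e, entry (K := K) h.2 z ia ib hia hib]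

omit [Fintype F] in
theorem evw_reverse [CharP F 2] (v : ℕ → F) (w : List (ℕ × Pol)) :
    evw K v w.reverse = (evw K v w)⁻¹ := by
  induction w with
  | nil => simp [evw, Twisted.wv]
  | cons rp w ih =>
    rw [List.reverse_cons, evw_append, ih, evw_cons, evw_cons, mul_inv_rev]
    congr 1
    simp only [evw, Twisted.wv, List.map_nil, List.prod_nil, mul_one]
    unfold IsoHyp.xN
    split_ifs with h
    · show (MT.rel K).x _ _ = ((MT.rel K).x _ _)⁻¹
      rw [← (MT.rel K).x_neg, CharTwo.neg_eq]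
    · simp

include Z hK

theorem nj_eq (k : Fin 2) : nj Z k = (MT.rel K).nw (if k = 0 then [3, 0] else [1, 2, 1, 2]) := by
  match k with
  | 0 =>
    have h : fd.orthB PP 0 = true := by decide +kernel
    rw [nj, if_pos rfl, if_pos rfl, Z.nJ_eq 0 h]
    show ([(24 : Fin MT.tab.n), 33].map fun r => (MT.rel K).nr r 1).prod = _
    simp only [RootRel.nw, List.map_cons, List.map_nil, RootRel.n]
    rfl
  | 1 =>
    obtain ⟨h20, -, -, -, -, -, hneg⟩ := pow_facts hK
    have key := wordMat_eq_of_check ChevCore.goodF4 ChevCore.chkLinkF4 nJ_word F (by exact_mod_cast h20)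
    simp only [List.map_cons, List.map_nil, Int.cast_one] at key
    rw [nj, if_neg (by decide), if_neg (by decide)]
    apply Model.mat_inj
    have e1 : ∀ (r : Fin MT.tab.n) (a : F), Model.mat ((MT.rel K).x r a) = chevF4.x F r.val a :=
      fun r a => MT.mat_xG K r a
    rw [show (MT.rel K).nw [1, 2, 1, 2] =
        (MT.rel K).n 1 * ((MT.rel K).n 2 * ((MT.rel K).n 1 * ((MT.rel K).n 2 * 1))) from rfl]
    simp only [RootRel.n, RootRel.nr, nOf, inv_one, hneg]
    rw [show Z.og 1 1 = (MT.rel K).x 28 1 * ((MT.rel K).x 30 1 * 1) from rfl,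
      show Z.ogn 1 1 = (MT.rel K).x ((MT.S).neg 28) 1 * ((MT.rel K).x ((MT.S).neg 30) 1 * 1) from rfl]
    simp only [Model.mat_mul, e1, mul_one]
    rw [show ((MT.S).neg (28 : Fin MT.tab.n)).val = 19 from rfl,
      show ((MT.S).neg (30 : Fin MT.tab.n)).val = 17 from rfl,
      show ((MT.S).simple 1).val = 27 from rfl, show ((MT.S).simple 2).val = 25 from rfl,
      show ((MT.S).neg ((MT.S).simple 1)).val = 20 from rfl,
      show ((MT.S).neg ((MT.S).simple 2)).val = 22 from rfl,
      show (28 : Fin MT.tab.n).val = 28 from rfl, show (30 : Fin MT.tab.n).val = 30 from rfl]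
    simp only [ChevalleyDatum.wordMat, List.map_cons, List.map_nil, List.prod_cons, List.prod_nil,
      mul_one] at key
    simp only [mul_assoc] at key ⊢
    exact key

theorem nj_conj_xN (k : Fin 2) (r : ℕ) (t : F) :
    nj Z k * IsoHyp.xN MT K r t * (nj Z k)⁻¹ = IsoHyp.xN MT K (pfN k r) t := by
  haveI := charTwo hK
  by_cases hr : r < MT.tab.n
  · rw [pfN, dif_pos hr, IsoHyp.xN, dif_pos hr, IsoHyp.xN, dif_pos (Fin.isLt _)]
    obtain ⟨c, hc, h⟩ := (MT.rel K).nw_conj (if k = 0 then [3, 0] else [1, 2, 1, 2]) ⟨r, hr⟩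
    have hc1 : c = 1 := by
      have h2 : (2 : F) = 0 := CharTwo.two_eq_zero
      have h1 : (c - 1) ^ 2 = 0 := by linear_combination hc + (1 - c) * h2
      exact sub_eq_zero.1 (pow_eq_zero_iff two_ne_zero |>.1 h1)
    show nj Z k * (MT.rel K).x ⟨r, hr⟩ t * (nj Z k)⁻¹ = (MT.rel K).x _ t
    rw [nj_eq Z hK, h t, hc1, one_mul]
    congr 1
    have e : ∀ (k : Fin 2) (r : Fin MT.tab.n),
        MT.S.actw (if k = 0 then [3, 0] else [1, 2, 1, 2]) r = MT.S.actw (fd.O.wd k) r := by
      decide +kernel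
    exact e k ⟨r, hr⟩
  · rw [pfN, dif_neg hr, IsoHyp.xN, dif_neg hr]
    simp

theorem nj_conj_evw (k : Fin 2) (v : ℕ → F) : ∀ w : List (ℕ × Pol),
    nj Z k * evw K v w * (nj Z k)⁻¹ = evw K v (mapW' k w)
  | [] => by simp [evw, Twisted.wv, mapW']
  | rp :: w => by
    rw [evw_cons, show mapW' k (rp :: w) = (pfN k rp.1, rp.2) :: mapW' k w from rfl, evw_cons,
      ← nj_conj_evw k v w, ← nj_conj_xN Z hK k]
    group

theorem evw_pair (v : ℕ → F) (s : ℕ) (h : v (4 * s) = v (4 * s + 1) ^ 2 ^ m) :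
    evw K v (rayW 1 s) = pairW K m (v (4 * s + 1)) := by
  rw [← (wv_pairW Z (v (4 * s + 1))).1]
  simp [evw, rayW, rayR, slotP, f4PairWord, f4p1, f4p4, pev, mev, h]

theorem evw_cls (v : ℕ → F) (s : ℕ) (h : v (4 * s) = v (4 * s + 1) ^ 2 ^ m)
    (h' : v (4 * s + 3) = v (4 * s + 2) ^ (2 * 2 ^ m)) :
    evw K v (rayW 8 s) = clsW K m (v (4 * s + 1)) (v (4 * s + 2)) := by
  rw [← (wv_clsW Z (v (4 * s + 1)) (v (4 * s + 2))).1]
  simp [evw, rayW, rayR, slotP, b2ClassWord, f4a, f4b, f4ab, f4aab, pev, mev, h, h', pow_succ]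

/-- the ray elements lie in the twisted group -/
theorem rayW_mem (i : ℕ) (hi : i ∈ [1, 2, 3, 4, 5, 6, 7, 8]) {v : ℕ → F} (hv : Tw m v) :
    evw K v (rayW i 9) ∈ G₁ := by
  have h1 : evw K v (rayW 1 9) ∈ G₁ := by
    rw [evw_pair Z hK v 9 (hv 9).1]; exact (pairW_mem Z _).1
  have h8 : evw K v (rayW 8 9) ∈ G₁ := by
    rw [evw_cls Z hK v 9 (hv 9).1 (hv 9).2]; exact (clsW_mem Z _ _).1
  have step : ∀ (k : Fin 2) {w w' : List (ℕ × Pol)}, mapW' k w = w' → evw K v w ∈ G₁ → evw K v w' ∈ G₁ := by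
    intro k w w' e h
    rw [← e, ← nj_conj_evw Z hK k v w]
    exact mul_mem (mul_mem (nj_mem Z hK k) h) (inv_mem (nj_mem Z hK k))
  obtain ⟨e7, e3, e5, e2, e6, e4⟩ := ray_map
  have h7 := step 1 e7 h1
  have h3 := step 0 e3 h7
  have h2 := step 0 e2 h8
  have h6 := step 1 e6 h2
  simp only [List.mem_cons, List.not_mem_nil, or_false] at hi
  rcases hi with rfl | rfl | rfl | rfl | rfl | rfl | rfl | rfl
  exacts [h1, h2, h3, step 0 e4 h6, step 1 e5 h3, h6, h7, h8]

theorem slot_le : ∀ W : List (Fin 2), ∀ rp ∈ wordsW W, ∀ mon ∈ rp.2, ∀ x ∈ mon, x < 4 * (W.length + 1) := by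
  intro W
  induction W with
  | nil => simp [wordsW]
  | cons k W ih =>
    intro rp hrp mon hm x hx
    rcases List.mem_append.1 hrp with h | h
    · have hb : ∀ j, j = 1 ∨ j = 8 → ∀ rp ∈ rayW j (W.length + 1), ∀ mon ∈ rp.2, ∀ x ∈ mon,
          x < 4 * (W.length + 1 + 1) := by
        rintro j (rfl | rfl) rp hrp mon hm x hx <;>
          simp only [rayW, rayR, slotP] at hrp <;> simp at hrp
        · rcases hrp with rfl | rfl <;> simp at hm <;> subst hm <;> simp at hx <;> omega
        · rcases hrp with rfl | rfl | rfl | rfl <;> simp at hm <;>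
            (first | (subst hm; simp at hx; omega) | (rcases hm with rfl | rfl <;> simp at hx <;> omega))
      unfold baseW at h
      split_ifs at h
      · exact hb 1 (Or.inl rfl) rp h mon hm x hx
      · exact hb 8 (Or.inr rfl) rp h mon hm x hx
    · obtain ⟨rp', hrp', rfl⟩ := List.mem_map.1 h
      have := ih rp' hrp' mon hm x hx
      rw [List.length_cons]
      omega

/-- every element of `P W` has coordinates -/
theorem exists_coord : ∀ W : List (Fin 2), (DT).Red W → ∀ u ∈ (DT).P W,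
    ∃ v : ℕ → F, Tw m v ∧ u = evw K v (wordsW W) := by
  intro W
  induction W with
  | nil =>
    intro _ u hu
    refine ⟨fun _ => 0, fun i => ?_, ?_⟩
    · simp
    · obtain ⟨⟨-, huU⟩, hv⟩ := hu
      simp only [Data.nW_nil, inv_one, one_mul, mul_one] at hv
      rw [U_inter_V (MT.rel K) (MT.shapeR K) huU hv]
      simp [wordsW, evw, Twisted.wv]
  | cons k W ih =>
    intro hred u hu
    obtain ⟨hu1, hu2⟩ := hu
    obtain ⟨a, ha, c, hc, rfl, ha', -⟩ :=
      (DT).fixed_decomp (MT.shapeR K) k hu1.2 ((DT).fixed _ hu1.1)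
    have haX := (DT).X_mem ha ha'
    have hc1 : c ∈ G₁ := by
      have := mul_mem (inv_mem (Subgroup.mem_inf.1 haX).1) hu1.1
      simpa using this
    have h1 : ((DT).nW (k :: W))⁻¹ * c * (DT).nW (k :: W) ∈ V (MT.rel K) := by
      have := mul_mem (inv_mem ((DT).nW_cons_inv_conj_Uk hred.1 ha)) hu2
      simpa [mul_assoc] using this
    obtain ⟨v, hv, hcv⟩ := ih hred.2 (((DT).nJ k)⁻¹ * c * (DT).nJ k)
      ⟨Subgroup.mem_inf.2 ⟨mul_mem (mul_mem (inv_mem ((DT).nJ_mem k)) hc1) ((DT).nJ_mem k),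
        (DT).Uo_le_U k ((DT).nJ_inv_conj_Uo k hc)⟩, by simpa [mul_assoc] using h1⟩
    set s := W.length + 1 with hs
    obtain ⟨t, z, hz⟩ : ∃ t z : F, a = if k = 0 then pairW K m t else clsW K m t z := by
      match k with
      | 0 =>
        obtain ⟨t, rfl⟩ := cls0 Z ha ((gens Z hK).fixed a (Subgroup.mem_inf.1 haX).1)
        exact ⟨t, 0, by simp⟩
      | 1 =>
        obtain ⟨t, z, rfl⟩ := cls1 Z hK ha ((gens Z hK).fixed a (Subgroup.mem_inf.1 haX).1)
        exact ⟨t, z, by simp⟩
    let v' : ℕ → F := fun x =>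
      if x = 4 * s then t ^ 2 ^ m else if x = 4 * s + 1 then t else if x = 4 * s + 2 then z
      else if x = 4 * s + 3 then z ^ (2 * 2 ^ m) else v x
    have e0 : v' (4 * s) = t ^ 2 ^ m := by simp [v']
    have e1 : v' (4 * s + 1) = t := by simp [v']
    have e2 : v' (4 * s + 2) = z := by simp [v']
    have e3 : v' (4 * s + 3) = z ^ (2 * 2 ^ m) := by simp [v']
    refine ⟨v', fun i => ?_, ?_⟩
    · by_cases hi : i = s
      · subst hi
        rw [e0, e1, e2, e3]; exact ⟨rfl, rfl⟩
      · have hne : ∀ j, j < 4 → v' (4 * i + j) = v (4 * i + j) := fun j hj => by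
          simp only [v']
          rw [if_neg (by omega), if_neg (by omega), if_neg (by omega), if_neg (by omega)]
        have := hne 0 (by norm_num)
        rw [add_zero] at this
        rw [this, hne 1 (by norm_num), hne 2 (by norm_num), hne 3 (by norm_num)]
        exact hv i
    · rw [wordsW, evw_append]
      congr 1
      · rw [hz]
        unfold baseW
        split_ifs
        · rw [evw_pair Z hK v' s (by rw [e0, e1]), e1]
        · rw [evw_cls Z hK v' s (by rw [e0, e1]) (by rw [e2, e3]), e1, e2]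
      · rw [← nj_conj_evw Z hK k, evw_congr (v' := v) fun rp hrp mon hm x hx => by
          have := slot_le Z hK W rp hrp mon hm x hx
          simp only [v']
          rw [if_neg (by omega), if_neg (by omega), if_neg (by omega), if_neg (by omega)], ← hcv]
        show c = (DT).nJ k * (((DT).nJ k)⁻¹ * c * (DT).nJ k) * ((DT).nJ k)⁻¹
        group

theorem exists_coord_U {u : ↥(chevF4.group F)} (hu : u ∈ (DT).U1) :
    ∃ v : ℕ → F, Tw m v ∧ u = evw K v UW := by
  have hL := (gens Z hK).longest long_ok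
  have hP := ((DT).nW_coset W0).inv_conj_Sg (T' := fun r => (MT.S).pos ((MT.S).neg r)) _ hL.2 hu.2
  obtain ⟨v, hv, e⟩ := exists_coord Z hK W0 hL.1 u ⟨hu, hP⟩
  exact ⟨v, hv, e.trans (congrArg (evw K v) wordsW_W0)⟩

theorem evw_mem_U (v : ℕ → F) {w : List (ℕ × Pol)}
    (hw : w.all (fun rp => decide (24 ≤ rp.1 ∧ rp.1 < 48)) = true) : evw K v w ∈ (MT.rel K).U := by
  refine list_prod_mem fun y hy => ?_
  simp only [List.map_map, List.mem_map, Function.comp_apply] at hy
  obtain ⟨rp, hrp, rfl⟩ := hy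
  have h := List.all_eq_true.1 hw rp hrp
  simp only [decide_eq_true_eq] at h
  rw [IsoHyp.xN, dif_pos (show rp.1 < MT.tab.n from h.2)]
  exact (MT.rel K).x_mem_U (show MT.S.pos ⟨rp.1, h.2⟩ by show 48 ≤ 2 * rp.1; omega) _

end Cfsg.Agent.Twisted.TypeF4
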