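import Cfsg.Agent.Twisted.F4BT.Steps

/-!
The normal forms of an involution of the positive unipotent subgroup of the twisted group of type F4.
-/

set_option autoImplicit false
set_option maxRecDepth 8000

namespace Cfsg.Agent.Twisted.TypeF4

open ChevGroup ChevIsogeny Cfsg.Lie PolyWord

variable {F : Type*} [Field F] [Fintype F] {m : ℕ} {K : Rels chevF4 F}
  (Z : Frame (T := MT) K PP (2 ^ m) fd) (hK : Fintype.card F = 2 ^ (2 * m + 1))

set_option quotPrecheck false in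
local notation "G₁" => genG MT K (f4Words F (2 ^ m))

variable (m K) in
/-- an element in a form, with its coordinates -/
structure InForm (R B : List ℕ) (v : ℕ → F) : Prop where
  tw : Tw m v
  van : Van v R B
  mem : elU K v ∈ G₁
  sq : elU K v * elU K v = 1
  ne : elU K v ≠ 1

variable (m K) in
/-- conjugate to one of the two normal forms -/
def Sol (x : ↥(chevF4.group F)) : Prop :=
  (∃ c, c ≠ 0 ∧ Cj m K x (pairW K m c)) ∨ ∃ c, c ≠ 0 ∧ Cj m K x (clsW K m 0 c)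

omit [Fintype F] in
theorem Sol.of_cj {x y : ↥(chevF4.group F)} (h : Cj m K x y) (h' : Sol m K y) : Sol m K x :=
  h'.imp (fun ⟨c, hc, e⟩ => ⟨c, hc, h.trans e⟩) fun ⟨c, hc, e⟩ => ⟨c, hc, h.trans e⟩

omit [Fintype F] in
theorem InForm.next {R B R' B' : List ℕ} {v z : ℕ → F} (h : InForm m K R B v) (hz : Tw m z)
    (hV : Van z R' B') (hc : Cj m K (elU K v) (elU K z)) : InForm m K R' B' z :=
  ⟨hz, hV, hc.mem h.mem, hc.sq h.sq, hc.ne_one h.ne⟩

theorem InForm.more {R B R' B' : List ℕ} {v : ℕ → F} (h : InForm m K R B v)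
    (hR : ∀ i ∈ R', i ∈ R ∨ v (4 * i + 1) = 0) (hB : ∀ i ∈ B', i ∈ B ∨ v (4 * i + 2) = 0) :
    InForm m K R' B' v :=
  { h with van := h.van.add h.tw hR hB }

include hK in
theorem t_inv {x : F} : (x ^ (2 * 2 ^ m)) ^ 2 ^ m = x ∧ (x ^ 2 ^ m) ^ (2 * 2 ^ m) = x := by
  obtain ⟨-, -, -, -, -, hper, -⟩ := pow_facts hK
  exact ⟨by rw [← pow_mul]; exact hper x, by rw [← pow_mul, mul_comm]; exact hper x⟩

include Z hK

/-- first normal form -/
theorem end1 {v : ℕ → F} (h : InForm m K [2, 3, 4, 5, 6, 7, 8] [2, 4, 6, 8] v) (h5 : v 5 ≠ 0) :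
    Sol m K (elU K v) := by
  refine Or.inl ⟨v 5, h5, 1, one_mem _, ?_⟩
  rw [one_mul, inv_one, mul_one, elU_zw h.van,
    show zw (ZL [2, 3, 4, 5, 6, 7, 8] [2, 4, 6, 8]) UW = rayW 1 1 by decide +kernel]
  exact evw_pair Z hK v 1 (h.tw 1).1

/-- second normal form -/
theorem end2 {v : ℕ → F} (h : InForm m K [1, 2, 3, 4, 5, 6, 7, 8] [2, 4, 6] v) (h34 : v 34 ≠ 0) :
    Sol m K (elU K v) := by
  refine Or.inr ⟨v 34, h34, 1, one_mem _, ?_⟩
  have h33 : v 33 = 0 := h.van.t (i := 8) (by simp)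
  have h32 : v 32 = 0 := h.tw.t_zero (i := 8) h33
  rw [one_mul, inv_one, mul_one, elU_zw h.van,
    show zw (ZL [1, 2, 3, 4, 5, 6, 7, 8] [2, 4, 6]) UW = zw [32, 33] (rayW 8 8) by decide +kernel,
    ← evw_zw v (by simp [h32, h33]), evw_cls Z hK v 8 (h.tw 8).1 (h.tw 8).2]
  show clsW K m (v 33) (v 34) = _
  rw [h33]

/-- the chain to the first normal form -/
theorem x1_case {v : ℕ → F} (h : InForm m K [2, 4, 6, 7, 8] [6, 8] v) (h5 : v 5 ≠ 0) :
    Sol m K (elU K v) := by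
  haveI := charTwo hK
  -- the fifth ray
  obtain ⟨z₁, t₁, V₁, c₁, e₁⟩ := conjStep Z hK 7 (by decide) [] [2, 4, 6, 7, 8] [6, 8] [2, 4, 6, 7, 8] [6, 8]
    h.tw h.van h.mem ((v 21 / v 5) ^ 2 ^ m) 0 (by simp) (by decide +kernel) (by decide +kernel)
    (by decide +kernel)
  have r1 := read e₁ (a := 42) (b := 17) (p₁ := [[5, 36, 36], [21]]) (p₂ := [[21]]) (by norm_num)
    (by norm_num) (by decide +kernel)
  have s1 := read e₁ (a := 1) (b := 0) (p₁ := [[5]]) (p₂ := [[5]]) (by norm_num) (by norm_num)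
    (by decide +kernel)
  have hP : (((v 21 / v 5) ^ 2 ^ m) ^ 2 ^ m) ^ 2 = v 21 / v 5 := by
    rw [← pow_mul _ _ 2, mul_comm _ 2, (t_inv hK).2]
  simp [pev, mev, upd] at r1 s1
  have z21 : z₁ 21 = 0 := by
    rw [← r1, ← sq, hP, mul_div_cancel₀ _ h5, CharTwo.add_self_eq_zero]
  have h₁ : InForm m K [2, 4, 5, 6, 7, 8] [6, 8] z₁ := (h.next t₁ V₁ c₁).more
    (by simp [z21]) (by simp)
  rw [s1] at h5
  refine Sol.of_cj c₁ ?_
  -- the third ray
  obtain ⟨z₂, t₂, V₂, c₂, e₂⟩ := conjStep Z hK 6 (by decide) [] [2, 4, 5, 6, 7, 8] [6, 8]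
    [2, 4, 5, 6, 7, 8] [6, 8]
    h₁.tw h₁.van h₁.mem ((z₁ 13 / z₁ 5) ^ 2 ^ m) 0 (by simp) (by decide +kernel) (by decide +kernel)
    (by decide +kernel)
  have r2 := read e₂ (a := 17) (b := 1) (p₁ := [[5, 36, 36], [13]]) (p₂ := [[13]]) (by norm_num)
    (by norm_num) (by decide +kernel)
  have s2 := read e₂ (a := 1) (b := 0) (p₁ := [[5]]) (p₂ := [[5]]) (by norm_num) (by norm_num)
    (by decide +kernel)
  have hP2 : (((z₁ 13 / z₁ 5) ^ 2 ^ m) ^ 2 ^ m) ^ 2 = z₁ 13 / z₁ 5 := by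
    rw [← pow_mul _ _ 2, mul_comm _ 2, (t_inv hK).2]
  simp [pev, mev, upd] at r2 s2
  have z13 : z₂ 13 = 0 := by
    rw [← r2, ← sq, hP2, mul_div_cancel₀ _ h5, CharTwo.add_self_eq_zero]
  have h₂ : InForm m K [2, 3, 4, 5, 6, 7, 8] [6, 8] z₂ := (h₁.next t₂ V₂ c₂).more
    (by simp [z13]) (by simp)
  rw [s2] at h5
  refine Sol.of_cj c₂ ?_
  -- the second ray
  have h4 : z₂ 4 ≠ 0 := by
    rw [show z₂ 4 = z₂ 5 ^ 2 ^ m from (h₂.tw 1).1]; exact pow_ne_zero _ h5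
  obtain ⟨z₃, t₃, V₃, c₃, e₃⟩ := conjStep Z hK 4 (by decide) [] [2, 3, 4, 5, 6, 7, 8] [6, 8]
    [2, 3, 4, 5, 6, 7, 8] [6, 8]
    h₂.tw h₂.van h₂.mem ((z₂ 10 / z₂ 4) ^ (2 * 2 ^ m)) 0 (by simp) (by decide +kernel) (by decide +kernel)
    (by decide +kernel)
  have r3 := read e₃ (a := 19) (b := 8) (p₁ := [[4, 36], [10]]) (p₂ := [[10]]) (by norm_num)
    (by norm_num) (by decide +kernel)
  have s3 := read e₃ (a := 1) (b := 0) (p₁ := [[5]]) (p₂ := [[5]]) (by norm_num) (by norm_num)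
    (by decide +kernel)
  simp [pev, mev, upd] at r3 s3
  have z10 : z₃ 10 = 0 := by
    rw [← r3, (t_inv hK).1, mul_div_cancel₀ _ h4, CharTwo.add_self_eq_zero]
  have h₃ : InForm m K [2, 3, 4, 5, 6, 7, 8] [2, 6, 8] z₃ := (h₂.next t₃ V₃ c₃).more
    (by simp) (by simp [z10])
  rw [s3] at h5
  refine Sol.of_cj c₃ ?_
  -- the fourth ray
  have h4' : z₃ 4 ≠ 0 := by
    rw [show z₃ 4 = z₃ 5 ^ 2 ^ m from (h₃.tw 1).1]; exact pow_ne_zero _ h5
  obtain ⟨z₄, t₄, V₄, c₄, e₄⟩ := conjStep Z hK 6 (by decide) [36, 37] [2, 3, 4, 5, 6, 7, 8] [2, 6, 8]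
    [2, 3, 4, 5, 6, 7, 8] [2, 6, 8]
    h₃.tw h₃.van h₃.mem 0 (z₃ 18 / z₃ 4) (by simp [upd]) (by decide +kernel) (by decide +kernel)
    (by decide +kernel)
  have r4 := read e₄ (a := 19) (b := 1) (p₁ := [[4, 38], [18]]) (p₂ := [[18]]) (by norm_num)
    (by norm_num) (by decide +kernel)
  have s4 := read e₄ (a := 1) (b := 0) (p₁ := [[5]]) (p₂ := [[5]]) (by norm_num) (by norm_num)
    (by decide +kernel)
  simp [pev, mev, upd] at r4 s4
  have z18 : z₄ 18 = 0 := by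
    rw [← r4, mul_div_cancel₀ _ h4', CharTwo.add_self_eq_zero]
  refine Sol.of_cj c₄ (end1 Z hK ((h₃.next t₄ V₄ c₄).more (by simp) (by simp [z18])) ?_)
  rwa [← s4]

/-- the case of a nonzero third coordinate, after the sixth one is cleared -/
theorem t3_case {v : ℕ → F} (h : InForm m K [1, 2, 4, 5, 6, 7, 8] [2, 6, 8] v) (h13 : v 13 ≠ 0) :
    Sol m K (elU K v) := by
  haveI := charTwo hK
  have h12 : v 12 ≠ 0 := by
    rw [show v 12 = v 13 ^ 2 ^ m from (h.tw 3).1]; exact pow_ne_zero _ h13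
  obtain ⟨z₁, t₁, V₁, c₁, e₁⟩ := conjStep Z hK 6 (by decide) [] [1, 2, 4, 5, 6, 7, 8] [2, 6, 8]
    [1, 2, 4, 5, 6, 7, 8] [2, 6, 8]
    h.tw h.van h.mem ((v 18 / v 12) ^ (2 * 2 ^ m)) 0 (by simp) (by decide +kernel) (by decide +kernel)
    (by decide +kernel)
  have r1 := read e₁ (a := 19) (b := 1) (p₁ := [[12, 36], [18]]) (p₂ := [[18]]) (by norm_num)
    (by norm_num) (by decide +kernel)
  have s1 := read e₁ (a := 19) (b := 7) (p₁ := [[12]]) (p₂ := [[12]]) (by norm_num) (by norm_num)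
    (by decide +kernel)
  simp [pev, mev, upd] at r1 s1
  have z18 : z₁ 18 = 0 := by
    rw [← r1, (t_inv hK).1, mul_div_cancel₀ _ h12, CharTwo.add_self_eq_zero]
  have h₁ : InForm m K [1, 2, 4, 5, 6, 7, 8] [2, 4, 6, 8] z₁ :=
    (h.next t₁ V₁ c₁).more (by simp) (by simp [z18])
  have h13' : z₁ 13 ≠ 0 := fun hz => h12 (by
    rw [s1, show z₁ 12 = z₁ 13 ^ 2 ^ m from (t₁ 3).1, hz, zero_pow (pow_ne_zero _ two_ne_zero)])
  refine Sol.of_cj c₁ ?_
  obtain ⟨z₂, t₂, V₂, c₂, e₂⟩ := mapStep Z hK 0 [1, 2, 4, 5, 6, 7, 8] [2, 4, 6, 8]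
    [1, 2, 3, 4, 5, 6, 8] [2, 4, 6, 8] h₁.van h₁.mem (by decide +kernel) (by decide +kernel)
  have r2 := read e₂ (a := 6) (b := 1) (p₁ := [[13]]) (p₂ := [[29]]) (by norm_num) (by norm_num)
    (by decide +kernel)
  have h₂ := h₁.next t₂ V₂ c₂
  refine Sol.of_cj c₂ ?_
  obtain ⟨z₃, t₃, V₃, c₃, e₃⟩ := mapStep Z hK 1 [1, 2, 3, 4, 5, 6, 8] [2, 4, 6, 8]
    [2, 3, 4, 5, 6, 7, 8] [2, 4, 6, 8] h₂.van h₂.mem (by decide +kernel) (by decide +kernel)
  have r3 := read e₃ (a := 1) (b := 0) (p₁ := [[29]]) (p₂ := [[5]]) (by norm_num) (by norm_num)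
    (by decide +kernel)
  simp [pev, mev] at r2 r3
  refine Sol.of_cj c₃ (end1 Z hK (h₂.next t₃ V₃ c₃) ?_)
  rwa [← r3, ← r2]

/-- only second parameters, the sixth nonzero -/
theorem u6_case {v : ℕ → F} (h : InForm m K [1, 2, 3, 4, 5, 6, 7, 8] [2, 8] v) (h26 : v 26 ≠ 0) :
    Sol m K (elU K v) := by
  haveI := charTwo hK
  obtain ⟨z₁, t₁, V₁, c₁, e₁⟩ := conjStep Z hK 1 (by decide) [] [1, 2, 3, 4, 5, 6, 7, 8] [2, 8]
    [1, 2, 3, 4, 5, 6, 7, 8] [2, 8]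
    h.tw h.van h.mem ((v 18 / v 26) ^ (2 * 2 ^ m)) 0 (by simp) (by decide +kernel) (by decide +kernel)
    (by decide +kernel)
  have r1 := read e₁ (a := 19) (b := 1) (p₁ := [[18], [26, 36]]) (p₂ := [[18]]) (by norm_num)
    (by norm_num) (by decide +kernel)
  have s1 := read e₁ (a := 36) (b := 17) (p₁ := [[26]]) (p₂ := [[26]]) (by norm_num) (by norm_num)
    (by decide +kernel)
  simp [pev, mev, upd] at r1 s1
  have z18 : z₁ 18 = 0 := by
    rw [← r1, (t_inv hK).1, mul_div_cancel₀ _ h26, CharTwo.add_self_eq_zero]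
  have h₁ : InForm m K [1, 2, 3, 4, 5, 6, 7, 8] [2, 4, 8] z₁ :=
    (h.next t₁ V₁ c₁).more (by simp) (by simp [z18])
  refine Sol.of_cj c₁ ?_
  obtain ⟨z₂, t₂, V₂, c₂, e₂⟩ := mapStep Z hK 1 [1, 2, 3, 4, 5, 6, 7, 8] [2, 4, 8]
    [1, 2, 3, 4, 5, 6, 7, 8] [4, 6, 8] h₁.van h₁.mem (by decide +kernel) (by decide +kernel)
  have r2 := read e₂ (a := 19) (b := 8) (p₁ := [[26]]) (p₂ := [[10]]) (by norm_num) (by norm_num)
    (by decide +kernel)
  have h₂ := h₁.next t₂ V₂ c₂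
  refine Sol.of_cj c₂ ?_
  obtain ⟨z₃, t₃, V₃, c₃, e₃⟩ := mapStep Z hK 0 [1, 2, 3, 4, 5, 6, 7, 8] [4, 6, 8]
    [1, 2, 3, 4, 5, 6, 7, 8] [2, 4, 6] h₂.van h₂.mem (by decide +kernel) (by decide +kernel)
  have r3 := read e₃ (a := 3) (b := 1) (p₁ := [[10]]) (p₂ := [[34]]) (by norm_num) (by norm_num)
    (by decide +kernel)
  simp [pev, mev] at r2 r3
  refine Sol.of_cj c₃ (end2 Z hK (h₂.next t₃ V₃ c₃) ?_)
  rwa [← r3, ← r2, ← s1]

/-- only second parameters -/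
theorem center_case {v : ℕ → F} (h : InForm m K [1, 2, 3, 4, 5, 6, 7, 8] [2, 8] v) :
    Sol m K (elU K v) := by
  haveI := charTwo hK
  by_cases h26 : v 26 = 0
  swap
  · exact u6_case Z hK h h26
  have h₁ : InForm m K [1, 2, 3, 4, 5, 6, 7, 8] [2, 6, 8] v := h.more (by simp) (by simp [h26])
  have h18 : v 18 ≠ 0 := fun h18 => h.ne (by
    have h' : InForm m K [1, 2, 3, 4, 5, 6, 7, 8] [2, 4, 6, 8] v := h₁.more (by simp) (by simp [h18])
    rw [elU_zw h'.van,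
      show zw (ZL [1, 2, 3, 4, 5, 6, 7, 8] [2, 4, 6, 8]) UW = [] by decide +kernel]
    simp [evw, Twisted.wv])
  obtain ⟨z₁, t₁, V₁, c₁, e₁⟩ := mapStep Z hK 0 [1, 2, 3, 4, 5, 6, 7, 8] [2, 6, 8]
    [1, 2, 3, 4, 5, 6, 7, 8] [2, 4, 8] h₁.van h₁.mem (by decide +kernel) (by decide +kernel)
  have r1 := read e₁ (a := 36) (b := 17) (p₁ := [[18]]) (p₂ := [[26]]) (by norm_num) (by norm_num)
    (by decide +kernel)
  simp [pev, mev] at r1
  refine Sol.of_cj c₁ (u6_case Z hK ((h₁.next t₁ V₁ c₁).more (by simp) (by simp)) ?_)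
  rwa [← r1]

/-- the second coordinate vanishes -/
theorem b2_case {v : ℕ → F} (h : InForm m K [1, 2, 4, 6, 7, 8] [2, 8] v) : Sol m K (elU K v) := by
  haveI := charTwo hK
  by_cases h13 : v 13 = 0
  swap
  · have h12 : v 12 ≠ 0 := by
      rw [show v 12 = v 13 ^ 2 ^ m from (h.tw 3).1]; exact pow_ne_zero _ h13
    obtain ⟨z₁, t₁, V₁, c₁, e₁⟩ := conjStep Z hK 8 (by decide) [] [1, 2, 4, 6, 7, 8] [2, 8]
      [1, 2, 4, 6, 7, 8] [2, 8] h.tw h.van h.mem (v 20 / v 12)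
      ((v 20 * (v 20 / v 12) ^ 2 ^ m + v 26) / v 12) (by simp) (by decide +kernel) (by decide +kernel)
      (by decide +kernel)
    have r1 := read e₁ (a := 10) (b := 1) (p₁ := [[12, 37], [20]]) (p₂ := [[20]]) (by norm_num)
      (by norm_num) (by decide +kernel)
    have r2 := read e₁ (a := 36) (b := 17) (p₁ := [[12, 38], [20, 36], [26]]) (p₂ := [[26]])
      (by norm_num) (by norm_num) (by decide +kernel)
    have s1 := read e₁ (a := 19) (b := 7) (p₁ := [[12]]) (p₂ := [[12]]) (by norm_num) (by norm_num)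
      (by decide +kernel)
    simp [pev, mev, upd] at r1 r2 s1
    have z20 : z₁ 20 = 0 := by rw [← r1, mul_div_cancel₀ _ h12, CharTwo.add_self_eq_zero]
    have z21 : z₁ 21 = 0 := by
      have := (t₁ 5).1
      rw [show z₁ (4 * 5) = z₁ 20 from rfl, z20] at this
      exact (pow_eq_zero_iff (pow_ne_zero _ two_ne_zero)).1 this.symm
    have z26 : z₁ 26 = 0 := by
      rw [← r2, mul_div_cancel₀ _ h12, CharTwo.add_self_eq_zero]
    refine Sol.of_cj c₁ (t3_case Z hK ((h.next t₁ V₁ c₁).more (by simp [z21]) (by simp [z26])) ?_)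
    intro hz
    refine h12 ?_
    rw [s1, show z₁ 12 = z₁ 13 ^ 2 ^ m from (t₁ 3).1, hz, zero_pow (pow_ne_zero _ two_ne_zero)]
  have h₃ : InForm m K [1, 2, 3, 4, 6, 7, 8] [2, 8] v := h.more (by simp [h13]) (by simp)
  by_cases h21 : v 21 = 0
  · exact center_case Z hK (h₃.more (by simp [h21]) (by simp))
  have h20 : v 20 ≠ 0 := by
    rw [show v 20 = v 21 ^ 2 ^ m from (h.tw 5).1]; exact pow_ne_zero _ h21
  obtain ⟨z₁, t₁, V₁, c₁, e₁⟩ := conjStep Z hK 8 (by decide) [] [1, 2, 3, 4, 6, 7, 8] [2, 8]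
    [1, 2, 3, 4, 6, 7, 8] [2, 8] h₃.tw h₃.van h₃.mem ((v 26 / v 20) ^ (2 * 2 ^ m)) 0 (by simp)
    (by decide +kernel) (by decide +kernel) (by decide +kernel)
  have r1 := read e₁ (a := 36) (b := 17) (p₁ := [[20, 36], [26]]) (p₂ := [[26]]) (by norm_num)
    (by norm_num) (by decide +kernel)
  have s1 := read e₁ (a := 10) (b := 1) (p₁ := [[20]]) (p₂ := [[20]]) (by norm_num) (by norm_num)
    (by decide +kernel)
  simp [pev, mev, upd] at r1 s1
  have z26 : z₁ 26 = 0 := by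
    rw [← r1, (t_inv hK).1, mul_div_cancel₀ _ h20, CharTwo.add_self_eq_zero]
  have h₁ : InForm m K [1, 2, 3, 4, 6, 7, 8] [2, 6, 8] z₁ :=
    (h₃.next t₁ V₁ c₁).more (by simp) (by simp [z26])
  have h21' : z₁ 21 ≠ 0 := fun hz => h20 (by
    rw [s1, show z₁ 20 = z₁ 21 ^ 2 ^ m from (t₁ 5).1, hz, zero_pow (pow_ne_zero _ two_ne_zero)])
  refine Sol.of_cj c₁ ?_
  obtain ⟨z₂, t₂, V₂, c₂, e₂⟩ := mapStep Z hK 1 [1, 2, 3, 4, 6, 7, 8] [2, 6, 8]
    [1, 2, 4, 5, 6, 7, 8] [2, 6, 8] h₁.van h₁.mem (by decide +kernel) (by decide +kernel)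
  have r2 := read e₂ (a := 17) (b := 1) (p₁ := [[21]]) (p₂ := [[13]]) (by norm_num) (by norm_num)
    (by decide +kernel)
  simp [pev, mev] at r2
  refine Sol.of_cj c₂ (t3_case Z hK (h₁.next t₂ V₂ c₂) ?_)
  rwa [← r2]

/-- the seventh coordinate vanishes -/
theorem e_case {v : ℕ → F} (h : InForm m K [1, 2, 4, 6, 7, 8] [8] v) : Sol m K (elU K v) := by
  haveI := charTwo hK
  by_cases h10 : v 10 = 0
  · exact b2_case Z hK (h.more (by simp) (by simp [h10]))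
  set a := (v 12 / v 10) ^ (2 * 2 ^ m) with ha
  set C := (v 10 * ((a ^ 2 ^ m) * (a ^ 2 ^ m)) * a + v 20 * a ^ 2 ^ m + v 26) / v 10 with hC
  obtain ⟨z₁, t₁, V₁, c₁, e₁⟩ := conjStep Z hK 8 (by decide) [] [1, 2, 4, 6, 7, 8] [8]
    [1, 2, 4, 6, 7, 8] [8] h.tw h.van h.mem a (C ^ 2 ^ m) (by simp) (by decide +kernel)
    (by decide +kernel) (by decide +kernel)
  have r1 := read e₁ (a := 36) (b := 17)
    (p₁ := [[10, 36, 36, 37], [10, 36, 38], [10, 39], [12, 38], [20, 36], [26]]) (p₂ := [[26]])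
    (by norm_num) (by norm_num) (by decide +kernel)
  simp [pev, mev, upd] at r1
  have hP : v 10 * a ^ 2 ^ m = v 12 := by rw [ha, (t_inv hK).1, mul_div_cancel₀ _ h10]
  have hCv : v 10 * C = v 10 * ((a ^ 2 ^ m) * (a ^ 2 ^ m)) * a + v 20 * a ^ 2 ^ m + v 26 := by
    rw [hC, mul_div_cancel₀ _ h10]
  have h2 : (2 : F) = 0 := CharTwo.two_eq_zero
  have z26 : z₁ 26 = 0 := by
    rw [← r1, (t_inv hK).2]
    linear_combination C ^ 2 ^ m * hP + hCv +
      (v 10 * ((a ^ 2 ^ m) * (a ^ 2 ^ m)) * a + v 20 * a ^ 2 ^ m + v 26 + v 12 * C ^ 2 ^ m) * h2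
  have h₁ : InForm m K [1, 2, 4, 6, 7, 8] [6, 8] z₁ :=
    (h.next t₁ V₁ c₁).more (by simp) (by simp [z26])
  refine Sol.of_cj c₁ ?_
  obtain ⟨z₂, t₂, V₂, c₂, -⟩ := mapStep Z hK 1 [1, 2, 4, 6, 7, 8] [6, 8]
    [1, 2, 4, 6, 7, 8] [2, 8] h₁.van h₁.mem (by decide +kernel) (by decide +kernel)
  exact Sol.of_cj c₂ (b2_case Z hK (h₁.next t₂ V₂ c₂))

/-- the first two coordinates and the second parameter of the eighth vanish -/
theorem low_case {v : ℕ → F} (h : InForm m K [1, 2, 8] [8] v) : Sol m K (elU K v) := by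
  haveI := charTwo hK
  have e1 := sq_read h.van h.sq (a := 21) (b := 0) (p := [[17, 25]]) (by norm_num) (by norm_num)
    (by decide +kernel)
  have e2 := sq_read h.van h.sq (a := 11) (b := 0) (p := [[16, 28], [24, 25]]) (by norm_num)
    (by norm_num) (by decide +kernel)
  have e3 := sq_read h.van h.sq (a := 18) (b := 0) (p := [[12, 24], [16, 17], [10, 28]])
    (by norm_num) (by norm_num) (by decide +kernel)
  simp [pev, mev] at e1 e2 e3
  have h46 : v 17 = 0 ∧ v 25 = 0 := by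
    rcases e1 with h17 | h25
    · refine ⟨h17, ?_⟩
      rw [h.tw.t_zero (i := 4) h17, zero_mul, zero_add] at e2
      rcases mul_eq_zero.1 e2 with h24 | h25
      · rw [show v 24 = v 25 ^ 2 ^ m from (h.tw 6).1] at h24
        exact (pow_eq_zero_iff (pow_ne_zero _ two_ne_zero)).1 h24
      · exact h25
    · refine ⟨?_, h25⟩
      have h24 := h.tw.t_zero (i := 6) h25
      rw [h24, zero_mul, add_zero] at e2
      by_contra h17
      have h16 : v 16 ≠ 0 := by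
        rw [show v 16 = v 17 ^ 2 ^ m from (h.tw 4).1]; exact pow_ne_zero _ h17
      have h28 : v 28 = 0 := (mul_eq_zero.1 e2).resolve_left h16
      rw [h24, h28] at e3
      simp [h16, h17] at e3
  have h₁ : InForm m K [1, 2, 4, 6, 8] [8] v := h.more (by simp [h46]) (by simp)
  by_cases h29 : v 29 = 0
  · exact e_case Z hK (h₁.more (by simp [h29]) (by simp))
  have e4 := sq_read h₁.van h₁.sq (a := 18) (b := 0) (p := [[10, 28]]) (by norm_num) (by norm_num)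
    (by decide +kernel)
  simp [pev, mev] at e4
  have h28 : v 28 ≠ 0 := by
    rw [show v 28 = v 29 ^ 2 ^ m from (h.tw 7).1]; exact pow_ne_zero _ h29
  have h10 : v 10 = 0 := e4.resolve_right h28
  have h₂ : InForm m K [1, 2, 4, 6, 8] [2, 8] v := h₁.more (by simp) (by simp [h10])
  obtain ⟨z₁, t₁, V₁, c₁, e₁⟩ := mapStep Z hK 1 [1, 2, 4, 6, 8] [2, 8] [2, 4, 6, 7, 8] [6, 8]
    h₂.van h₂.mem (by decide +kernel) (by decide +kernel)
  have r1 := read e₁ (a := 1) (b := 0) (p₁ := [[29]]) (p₂ := [[5]]) (by norm_num) (by norm_num)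
    (by decide +kernel)
  simp [pev, mev] at r1
  refine Sol.of_cj c₁ (x1_case Z hK (h₂.next t₁ V₁ c₁) ?_)
  rwa [← r1]

/-- the first coordinate vanishes -/
theorem r18_case {v : ℕ → F} (h : InForm m K [1, 8] [] v) : Sol m K (elU K v) := by
  haveI := charTwo hK
  have e1 := sq_read h.van h.sq (a := 7) (b := 0) (p := [[8, 9]]) (by norm_num) (by norm_num)
    (by decide +kernel)
  simp [pev, mev] at e1
  have h9 : v 9 = 0 := by
    rcases e1 with h8 | h9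
    · rw [show v 8 = v 9 ^ 2 ^ m from (h.tw 2).1] at h8
      exact (pow_eq_zero_iff (pow_ne_zero _ two_ne_zero)).1 h8
    · exact h9
  have h₁ : InForm m K [1, 2, 8] [] v := h.more (by simp [h9]) (by simp)
  by_cases h34 : v 34 = 0
  · exact low_case Z hK (h₁.more (by simp) (by simp [h34]))
  have e2 := sq_read h₁.van h₁.sq (a := 9) (b := 0) (p := [[16, 24], [10, 34]]) (by norm_num)
    (by norm_num) (by decide +kernel)
  simp [pev, mev] at e2
  set a := (v 24 / v 34) ^ (2 * 2 ^ m) with ha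
  obtain ⟨z₁, t₁, V₁, c₁, e₁⟩ := conjStep Z hK 1 (by decide) [] [1, 2, 8] [] [1, 2, 8] []
    h₁.tw h₁.van h₁.mem a 0 (by simp) (by decide +kernel) (by decide +kernel) (by decide +kernel)
  have r1 := read e₁ (a := 19) (b := 8) (p₁ := [[10], [16, 36], [24, 37], [34, 36, 37]]) (p₂ := [[10]])
    (by norm_num) (by norm_num) (by decide +kernel)
  simp [pev, mev, upd] at r1
  have hP : v 34 * a ^ 2 ^ m = v 24 := by rw [ha, (t_inv hK).1, mul_div_cancel₀ _ h34]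
  have h2 : (2 : F) = 0 := CharTwo.two_eq_zero
  have z10 : z₁ 10 = 0 := by
    have : v 34 * z₁ 10 = 0 := by
      rw [← r1]
      linear_combination e2 + (v 16 + v 34 * a) * hP + v 34 * v 24 * a * h2
    exact (mul_eq_zero.1 this).resolve_left h34
  have h₂ : InForm m K [1, 2, 8] [2] z₁ := (h₁.next t₁ V₁ c₁).more (by simp) (by simp [z10])
  refine Sol.of_cj c₁ ?_
  obtain ⟨z₂, t₂, V₂, c₂, -⟩ := mapStep Z hK 0 [1, 2, 8] [2] [1, 2, 8] [8] h₂.van h₂.mem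
    (by decide +kernel) (by decide +kernel)
  exact Sol.of_cj c₂ (low_case Z hK (h₂.next t₂ V₂ c₂))

/-- every involution of the positive unipotent subgroup -/
theorem form_case {v : ℕ → F} (h : InForm m K [] [] v) : Sol m K (elU K v) := by
  haveI := charTwo hK
  have e1 := sq_read h.van h.sq (a := 3) (b := 1) (p := [[32, 33]]) (by norm_num) (by norm_num)
    (by decide +kernel)
  simp [pev, mev] at e1
  have h33 : v 33 = 0 := by
    rcases e1 with h32 | h33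
    · rw [show v 32 = v 33 ^ 2 ^ m from (h.tw 8).1] at h32
      exact (pow_eq_zero_iff (pow_ne_zero _ two_ne_zero)).1 h32
    · exact h33
  have h₁ : InForm m K [8] [] v := h.more (by simp [h33]) (by simp)
  by_cases h5 : v 5 = 0
  · exact r18_case Z hK (h₁.more (by simp [h5]) (by simp))
  have e2 := sq_read h₁.van h₁.sq (a := 3) (b := 0) (p := [[5, 34]]) (by norm_num) (by norm_num)
    (by decide +kernel)
  simp [pev, mev, h5] at e2
  have h₂ : InForm m K [8] [8] v := h₁.more (by simp) (by simp [e2])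
  set a := v 9 / v 5 with ha
  set C := (v 5 * ((a ^ 2 ^ m) * (a ^ 2 ^ m)) * (a * a) + v 25 * a + v 29) / v 5 with hC
  set b := C ^ (2 ^ m * 2 ^ m) with hb
  have hb2 : b * b = C := by
    obtain ⟨-, -, -, -, -, hper, -⟩ := pow_facts hK
    rw [hb, ← pow_add, ← two_mul, ← mul_assoc, hper]
  obtain ⟨z₁, t₁, V₁, c₁, e₁⟩ := conjStep Z hK 8 (by decide) [] [8] [8] [8] [8]
    h₂.tw h₂.van h₂.mem a b (by simp) (by decide +kernel) (by decide +kernel) (by decide +kernel)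
  have r1 := read e₁ (a := 6) (b := 1)
    (p₁ := [[5, 36, 36, 37, 37], [5, 37, 39], [5, 38, 38], [9, 39], [25, 37], [29]]) (p₂ := [[29]])
    (by norm_num) (by norm_num) (by decide +kernel)
  simp [pev, mev, upd] at r1
  have hA : v 5 * a = v 9 := by rw [ha, mul_div_cancel₀ _ h5]
  have hCv : v 5 * C = v 5 * ((a ^ 2 ^ m) * (a ^ 2 ^ m)) * (a * a) + v 25 * a + v 29 := by
    rw [hC, mul_div_cancel₀ _ h5]
  have h2 : (2 : F) = 0 := CharTwo.two_eq_zero
  have z29 : z₁ 29 = 0 := by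
    rw [← r1]
    linear_combination b ^ (2 * 2 ^ m) * hA + v 5 * hb2 + hCv +
      (v 5 * ((a ^ 2 ^ m) * (a ^ 2 ^ m)) * (a * a) + v 25 * a + v 29 + v 9 * b ^ (2 * 2 ^ m)) * h2
  have h₃ : InForm m K [7, 8] [8] z₁ := (h₂.next t₁ V₁ c₁).more (by simp [z29]) (by simp)
  refine Sol.of_cj c₁ ?_
  obtain ⟨z₂, t₂, V₂, c₂, -⟩ := mapStep Z hK 1 [7, 8] [8] [1, 8] [] h₃.van h₃.mem
    (by decide +kernel) (by decide +kernel)
  exact Sol.of_cj c₂ (r18_case Z hK (h₃.next t₂ V₂ c₂))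

end Cfsg.Agent.Twisted.TypeF4
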