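import Cfsg.Agent.Twisted.F4BT.Forms
import Cfsg.Agent.Twisted.F4BT.Main

/-!
The two involutions `pairW 1` and `clsW 0 1`: torus normalisation and a rank certificate that separates them.
-/

set_option autoImplicit false
set_option maxRecDepth 8000

namespace Cfsg.Agent.Twisted.TypeF4

open ChevGroup ChevIsogeny Cfsg.Lie PolyWord

/-- the supports of the left factor -/
def rA : List (List ℕ) :=
  [[], [], [], [0], [0], [1], [], [], [], [2], [], [3], [], [4], [5], [], [], [], [6], [], [7], [6], [], [8],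
    [], [7], [], [9], [10], [11], [12], [11], [13], [], [], [14], [], [15], [], [16], [17], [], [], [], [18],
    [18], [19], [], [], [20], [7], []]

/-- the supports of the right factor -/
def rB : List (List ℕ) :=
  [[1], [1, 2], [7], [7, 8], [10], [10, 12], [15], [17], [15, 16], [19, 22], [17, 19, 20, 48, 50, 51], [24],
    [17, 22, 51], [24, 26], [33], [33, 34], [36], [36, 38], [42], [42, 43], [17, 19]]

/-- rows of the minor -/
def rI : List ℕ :=
  [1, 6, 7, 8, 10, 12, 17, 19, 20, 22, 24, 26, 29, 31, 33, 34, 36, 38, 39, 42, 44, 47, 48, 51]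

/-- columns of the minor -/
def rJ : List ℕ :=
  [0, 3, 4, 5, 6, 9, 11, 12, 13, 14, 21, 23, 25, 27, 28, 29, 30, 31, 32, 37, 40, 46, 49, 50]

/-- the minor -/
def rP : List (List ℕ) :=
  [[0], [3], [1], [2], [3, 4, 5], [6], [3, 4], [6, 7], [8], [10], [11, 23], [12], [14], [16], [9, 22], [13],
    [14, 15], [16, 17, 19], [18], [16, 17], [20], [21], [9], [11]]

/-- its inverse -/
def rQ : List (List ℕ) :=
  [[0], [2], [3], [1], [1, 6], [4, 6], [5], [5, 7], [8], [22], [9], [23], [11], [15], [12], [12, 16], [13],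
    [13, 19], [18], [17, 19], [20], [21], [14, 22], [10, 23]]

/-- a matrix from supports -/
def supM (L : List (List ℕ)) {p q : ℕ} : Matrix (Fin p) (Fin q) (ZMod 2) := fun i j =>
  if (L.getD i.val []).contains j.val then 1 else 0

/-- a polynomial with the given value -/
def polC (x : ZMod 2) : Pol := if x = 1 then [[]] else []

/-- the word of the first representative -/
def wPair : List (ℕ × Pol) := [(33, [[]]), (24, [[]])]

/-- the word of the second representative -/
def wCls : List (ℕ × Pol) := [(28, [[]]), (30, [[]])]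

theorem rep_pq : ∀ i j : Fin 24,
    (supM rP * supM rQ : Matrix (Fin 24) (Fin 24) (ZMod 2)) i j = if i = j then 1 else 0 := by
  decide +kernel

theorem rep_lt : ∀ i : Fin 24, rI.getD i.val 0 < 52 ∧ rJ.getD i.val 0 < 52 := by decide +kernel

theorem rep_pair : ∀ i j : Fin 24, entB chevF4 (ChevCore.fast chevF4 ChevCore.packedF4) wPair
    (rI.getD i.val 0) (rJ.getD j.val 0)
    (polC ((if rI.getD i.val 0 = rJ.getD j.val 0 then 1 else 0) +
      (supM rP : Matrix (Fin 24) (Fin 24) (ZMod 2)) i j)) = true := by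
  decide +kernel

theorem rep_cls : ∀ a b : Fin 52, entB chevF4 (ChevCore.fast chevF4 ChevCore.packedF4) wCls a.val b.val
    (polC ((if a = b then 1 else 0) +
      ((supM rA : Matrix (Fin 52) (Fin 21) (ZMod 2)) * (supM rB : Matrix (Fin 21) (Fin 52) (ZMod 2))) a b)) = true := by
  decide +kernel

variable {F : Type*} [Field F] [Fintype F] {m : ℕ} {K : Rels chevF4 F}
  (Z : Frame (T := MT) K PP (2 ^ m) fd) (hK : Fintype.card F = 2 ^ (2 * m + 1))

set_option quotPrecheck false in
local notation "G₁" => genG MT K (f4Words F (2 ^ m))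

omit [Fintype F] in
theorem pev_polC [CharP F 2] (v : ℕ → F) (x : ZMod 2) :
    pev v (polC x) = ZMod.castHom (dvd_refl 2) F x := by
  have hx : x = 0 ∨ x = 1 := by revert x; decide
  rcases hx with rfl | rfl
  · simp [polC, pev]
  · rw [map_one]; simp [polC, pev, mev]

include Z hK

theorem rep_not_conj {g : ↥(chevF4.group F)} : g * pairW K m 1 * g⁻¹ ≠ clsW K m 0 1 := by
  intro he
  haveI := charTwo hK
  let f : ZMod 2 →+* F := ZMod.castHom (dvd_refl 2) F
  have hev1 : evw K (fun _ : ℕ => (0 : F)) wPair = pairW K m 1 := by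
    rw [← (wv_pairW Z (1 : F)).1]
    simp [evw, wPair, f4PairWord, f4p1, f4p4, pev, mev]
  have hev2 : evw K (fun _ : ℕ => (0 : F)) wCls = clsW K m 0 1 := by
    rw [← (og1_eq Z hK (1 : F)).1]
    simp [evw, wCls, Twisted.wv, prodX, two, IsoHyp.xN, pev, mev]
    rfl
  have hcd : ∀ a : chevF4.Idx, ChevCore.code chevF4 a < 52 := fun a => ChevCore.code_lt chevF4 a
  let cd : chevF4.Idx → Fin 52 := fun a => ⟨ChevCore.code chevF4 a, hcd a⟩
  let A : Matrix chevF4.Idx (Fin 21) F := fun a k => f (supM rA (cd a) k)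
  let B : Matrix (Fin 21) chevF4.Idx F := fun k b => f (supM rB k (cd b))
  have hC : Model.mat (clsW K m 0 (1 : F)) - 1 = A * B := by
    rw [← hev2]
    ext a b
    rw [Matrix.sub_apply, entry (K := K) (rep_cls (cd a) (cd b)) (fun _ : ℕ => (0 : F)) a b rfl rfl, pev_polC, map_add]
    have e : ((supM rA : Matrix (Fin 52) (Fin 21) (ZMod 2)) * (supM rB : Matrix (Fin 21) (Fin 52) (ZMod 2))) (cd a) (cd b) =
        ∑ k, supM rA (cd a) k * supM rB k (cd b) := Matrix.mul_apply
    have e1 : (f (if cd a = cd b then 1 else 0)) = (1 : Matrix chevF4.Idx chevF4.Idx F) a b := by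
      by_cases h : a = b
      · subst h; simp
      · rw [if_neg fun hc => h (ChevCore.code_injective chevF4 (congrArg Fin.val hc)), map_zero,
          Matrix.one_apply_ne h]
    rw [show ZMod.castHom (dvd_refl 2) F = f from rfl, e1, add_sub_cancel_left, e, map_sum]
    rw [Matrix.mul_apply]
    simp [map_mul, A, B]
  choose I hI using fun i : Fin 24 => ChevCore.exists_code_eq chevF4 (v := rI.getD i.val 0) (rep_lt i).1
  choose J hJ using fun i : Fin 24 => ChevCore.exists_code_eq chevF4 (v := rJ.getD i.val 0) (rep_lt i).2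
  have hP : (Model.mat (pairW K m (1 : F)) - 1).submatrix I J =
      (supM rP : Matrix (Fin 24) (Fin 24) (ZMod 2)).map f := by
    rw [← hev1]
    ext i j
    rw [Matrix.submatrix_apply, Matrix.sub_apply, entry (K := K) (rep_pair i j) (fun _ : ℕ => (0 : F)) (I i) (J j) (hI i) (hJ j),
      pev_polC, map_add]
    have e1 : (f (if rI.getD i.val 0 = rJ.getD j.val 0 then 1 else 0)) =
        (1 : Matrix chevF4.Idx chevF4.Idx F) (I i) (J j) := by
      rw [← hI i, ← hJ j]
      by_cases h : I i = J j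
      · rw [h]; simp
      · rw [if_neg fun hc => h (ChevCore.code_injective chevF4 hc), map_zero, Matrix.one_apply_ne h]
    rw [show ZMod.castHom (dvd_refl 2) F = f from rfl, e1, add_sub_cancel_left]
    rfl
  have hconj : Model.mat (pairW K m (1 : F)) - 1 =
      Model.mat g⁻¹ * A * (B * Model.mat g) := by
    have e : Model.mat (pairW K m (1 : F)) =
        Model.mat g⁻¹ * Model.mat (clsW K m 0 (1 : F)) * Model.mat g := by
      rw [← Model.mat_mul, ← Model.mat_mul, ← he]
      congr 1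
      group
    have e1 : Model.mat g⁻¹ * Model.mat g = 1 := by
      rw [← Model.mat_mul, inv_mul_cancel]
      simp [Model.mat]
    rw [Matrix.mul_assoc (Model.mat g⁻¹), ← Matrix.mul_assoc A, ← hC, Matrix.sub_mul, Matrix.mul_sub,
      Matrix.one_mul, ← Matrix.mul_assoc, ← e, e1]
  rw [hconj, Matrix.submatrix_mul _ _ I (id : Fin 21 → Fin 21) J Function.bijective_id] at hP
  have h1 := congrArg (· * (supM rQ : Matrix (Fin 24) (Fin 24) (ZMod 2)).map f) hP
  simp only [← Matrix.map_mul] at h1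
  rw [show (supM rP * supM rQ : Matrix (Fin 24) (Fin 24) (ZMod 2)) = 1 from
      Matrix.ext fun i j => by rw [rep_pq i j, Matrix.one_apply],
    Matrix.map_one f (map_zero f) (map_one f), Matrix.mul_assoc] at h1
  have h2 := congrArg Matrix.rank h1
  rw [Matrix.rank_one, Fintype.card_fin] at h2
  have h3 := (Matrix.rank_mul_le_left ((Model.mat g⁻¹ * A).submatrix I (id : Fin 21 → Fin 21))
      ((B * Model.mat g).submatrix (id : Fin 21 → Fin 21) J *
        (supM rQ : Matrix (Fin 24) (Fin 24) (ZMod 2)).map f)).trans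
    (Matrix.rank_le_card_width ((Model.mat g⁻¹ * A).submatrix I (id : Fin 21 → Fin 21)))
  rw [h2, Fintype.card_fin] at h3
  omega

theorem cj_pairW {c : F} (hc : c ≠ 0) : Cj m K (pairW K m c) (pairW K m 1) := by
  obtain ⟨-, -, -, -, -, hper, -⟩ := pow_facts hK
  set u : Fˣ := (Units.mk0 c hc)⁻¹ with hu
  set y : Fˣ := u ^ (2 ^ m * 2 ^ m) with hy
  have hy2 : (y : F) ^ 2 = (u : F) := by
    rw [hy, Units.val_pow_eq_pow_val, ← pow_mul, mul_comm _ 2, ← mul_assoc, hper]
  have huc : (u : F) * c = 1 := by rw [hu]; simp [hc]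
  refine ⟨_, torus_mem Z hK _ (sig_cvec Z hK y 1), ?_⟩
  obtain ⟨c33, c24⟩ := chi_cvec0 Z y
  rw [pairW, Z.tor_prodX_conj, pairW]
  refine Z.prodX_congr fun r hr => ?_
  simp only [List.mem_cons, List.not_mem_nil, or_false] at hr
  rcases hr with rfl | rfl
  · rw [c33]
    simp only [two, if_pos, Units.val_pow_eq_pow_val, one_pow]
    rw [← mul_pow, hy2, huc, one_pow]
  · rw [c24, Units.val_pow_eq_pow_val, hy2]
    simp only [two, if_neg (show (24 : Fin MT.tab.n) ≠ 33 by decide)]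
    exact huc

theorem cj_clsW {c : F} (hc : c ≠ 0) : Cj m K (clsW K m 0 c) (clsW K m 0 1) := by
  set z : Fˣ := (Units.mk0 c hc)⁻¹ with hz
  have hzc : (z : F) * c = 1 := by rw [hz]; simp [hc]
  refine ⟨_, torus_mem Z hK _ (sig_cvec Z hK 1 z), ?_⟩
  obtain ⟨c28, c30, -, -, -⟩ := chi_cvec1 Z z
  rw [← (og1_eq Z hK c).1, ← (og1_eq Z hK 1).1, Z.tor_prodX_conj]
  refine Z.prodX_congr fun r hr => ?_
  simp only [List.mem_cons, List.not_mem_nil, or_false] at hr
  rcases hr with rfl | rfl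
  · simp only [two, if_pos, c28]
    exact hzc
  · simp only [two, if_neg (show (30 : Fin MT.tab.n) ≠ 28 by decide), c30, Units.val_pow_eq_pow_val]
    rw [← mul_pow, hzc]

theorem pairW_one_ne : pairW K m (1 : F) ≠ 1 := by
  intro h
  rw [pairW, Z.prodX_perm (L := [33, 24]) (L' := [24, 33]) (by decide) (list_ok Z _ (by decide))] at h
  have h' : prodX MT K [24, 33] (two 33 ((1 : F) ^ 2 ^ m) 1) = prodX MT K [24, 33] (fun _ => (0 : F)) := by
    rw [h]; simp [prodX, (MT.rel K).x_zero]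
  have := Z.prodX_inj (L := [24, 33]) (by decide +kernel) h' 24 (by simp)
  simp [two] at this

theorem clsW_one_ne : clsW K m (0 : F) 1 ≠ 1 := by
  intro h
  have hz : clsW K m (0 : F) 0 = 1 := by
    rw [← (og1_eq Z hK (0 : F)).1]
    simp [prodX, two, (MT.rel K).x_zero]
  have := form_inj Z hK (h.trans hz.symm : clsW K m (0 : F) 1 = clsW K m 0 0)
  simp at this

theorem pairW_one_sq : pairW K m (1 : F) * pairW K m 1 = 1 := by
  haveI := charTwo hK
  rw [pairW, N_mul Z (by decide) (by decide)]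
  simp [prodX, two, CharTwo.add_self_eq_zero, (MT.rel K).x_zero]

theorem clsW_one_sq : clsW K m (0 : F) 1 * clsW K m 0 1 = 1 := by
  haveI := charTwo hK
  rw [← (og1_eq Z hK (1 : F)).1, N_mul Z (by decide) (by decide)]
  simp [prodX, two, CharTwo.add_self_eq_zero, (MT.rel K).x_zero]

/-- the two classes -/
theorem two_classes (x : ↥(chevF4.group F)) (hx : x ∈ G₁) (h2 : x * x = 1) (h1 : x ≠ 1) :
    Cj m K x (pairW K m 1) ∨ Cj m K x (clsW K m 0 1) := by
  have key : ∀ a : ↥G₁, (a : ↥(chevF4.group F)) = x →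
      ∃ v, Tw m v ∧ Cj m K x (elU K v) := by
    intro a ha
    obtain ⟨g, hg⟩ := exists_conj_U1 Z hK a (j := 1) (by
      rw [pow_one, pow_two]
      exact Subtype.ext (by rw [Subgroup.coe_mul, ha, h2, OneMemClass.coe_one]))
    obtain ⟨v, hv, e⟩ := exists_coord_U Z hK (Subgroup.mem_inf.2 ⟨(g⁻¹ * a * g).2, hg⟩)
    refine ⟨v, hv, ?_⟩
    rw [elU, ← e, Subgroup.coe_mul, Subgroup.coe_mul, ha, Subgroup.coe_inv]
    exact ⟨(g : ↥(chevF4.group F))⁻¹, inv_mem g.2, by rw [inv_inv]⟩
  obtain ⟨v, hv, hc⟩ := key ⟨x, hx⟩ rfl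
  have h : InForm m K [] [] v :=
    ⟨hv, by simp [Van, ZL], hc.mem hx, hc.sq h2, hc.ne_one h1⟩
  rcases (form_case Z hK h).of_cj hc with ⟨c, hc0, h'⟩ | ⟨c, hc0, h'⟩
  · exact Or.inl (h'.trans (cj_pairW Z hK hc0))
  · exact Or.inr (h'.trans (cj_clsW Z hK hc0))

/-- the two classes, inside the twisted group -/
theorem invol_reps : ∃ a b : ↥G₁, (a : ↥(chevF4.group F)) = pairW K m 1 ∧ (b : ↥(chevF4.group F)) = clsW K m 0 1 ∧
    a * a = 1 ∧ a ≠ 1 ∧ b * b = 1 ∧ b ≠ 1 ∧ (∀ c : ↥G₁, c * a * c⁻¹ ≠ b) ∧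
    ∀ x : ↥G₁, x * x = 1 → x ≠ 1 → (∃ c : ↥G₁, c * x * c⁻¹ = a) ∨ ∃ c : ↥G₁, c * x * c⁻¹ = b := by
  refine ⟨⟨_, (pairW_mem Z 1).1⟩, ⟨_, (clsW_mem Z 0 1).1⟩, rfl, rfl,
    Subtype.ext (pairW_one_sq Z hK), fun h => pairW_one_ne Z hK (congrArg Subtype.val h),
    Subtype.ext (clsW_one_sq Z hK), fun h => clsW_one_ne Z hK (congrArg Subtype.val h),
    fun c h => rep_not_conj Z hK (congrArg Subtype.val h), fun x h2 h1 => ?_⟩
  exact (two_classes Z hK x.val x.2 (congrArg Subtype.val h2) fun h => h1 (Subtype.ext h)).imp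
    (fun ⟨g, hg, he⟩ => ⟨⟨g, hg⟩, Subtype.ext he⟩) fun ⟨g, hg, he⟩ => ⟨⟨g, hg⟩, Subtype.ext he⟩

end Cfsg.Agent.Twisted.TypeF4
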