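import Cfsg.Agent.Twisted.F4BT.Coords

/-!
Moves between the normal forms of an involution of the positive unipotent subgroup: conjugation by a ray
element and by the two reflections, with the coordinates that stay zero.
-/

set_option autoImplicit false
set_option maxRecDepth 4000

namespace Cfsg.Agent.Twisted.TypeF4

open ChevGroup ChevIsogeny Cfsg.Lie PolyWord

/-- the variables that vanish when the rays in `R` have parameter zero and those in `B` second parameter zero -/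
def ZL (R B : List ℕ) : List ℕ :=
  R.flatMap (fun i => [4 * i, 4 * i + 1]) ++ B.flatMap (fun i => [4 * i + 2, 4 * i + 3])

/-- where the first parameter of a ray is read -/
def tR (i : ℕ) : ℕ × ℕ :=
  [(0, 0), (1, 0), (6, 4), (17, 1), (15, 1), (42, 17), (6, 2), (6, 1), (2, 1)].getD i (0, 0)

/-- where the second parameter of a ray is read -/
def tB (i : ℕ) : ℕ × ℕ :=
  [(0, 0), (0, 0), (19, 8), (0, 0), (19, 1), (0, 0), (36, 17), (0, 0), (3, 1)].getD i (0, 0)

/-- a word lies in the form given by `R` and `B` -/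
noncomputable def zeroB (w : List (ℕ × Pol)) (R B : List ℕ) : Bool :=
  R.all (fun i => decide ((tR i).1 < 52 ∧ (tR i).2 < 52) &&
      readB w UW (tR i).1 (tR i).2 [] [[4 * i + 1]]) &&
    B.all (fun i => decide ((tB i).1 < 52 ∧ (tB i).2 < 52) &&
      readB w (zw (ZL R []) UW) (tB i).1 (tB i).2 [] [[4 * i + 2]])

/-- positive roots only -/
def posW (w : List (ℕ × Pol)) : Bool := w.all fun rp => decide (24 ≤ rp.1 ∧ rp.1 < 48)

/-- a conjugated word -/
def cjw (i : ℕ) (Zg Z : List ℕ) : List (ℕ × Pol) :=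
  zw Zg (rayW i 9) ++ zw Z UW ++ (zw Zg (rayW i 9)).reverse

theorem UW_vars : UW.all (fun rp => rp.2.all fun mon => mon.all fun x => decide (x < 36)) = true := by
  decide +kernel

variable {F : Type*} [Field F] [Fintype F] {m : ℕ} {K : Rels chevF4 F}
  (Z : Frame (T := MT) K PP (2 ^ m) fd) (hK : Fintype.card F = 2 ^ (2 * m + 1))

set_option quotPrecheck false in
local notation "G₁" => genG MT K (f4Words F (2 ^ m))

set_option quotPrecheck false in
local notation "DT" => (gens Z hK).data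

/-- the coordinates in `R` and `B` vanish -/
def Van (v : ℕ → F) (R B : List ℕ) : Prop := ∀ x ∈ ZL R B, v x = 0

/-- the variables of slot 9 set -/
def upd (m : ℕ) (v : ℕ → F) (a b : F) : ℕ → F := fun x =>
  if x = 36 then a ^ 2 ^ m else if x = 37 then a else if x = 38 then b
  else if x = 39 then b ^ (2 * 2 ^ m) else v x

omit [Fintype F] in
theorem Tw.upd {v : ℕ → F} (hv : Tw m v) (a b : F) : Tw m (upd m v a b) := by
  intro i
  by_cases hi : i = 9
  · subst hi; simp [TypeF4.upd]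
  · simp only [TypeF4.upd]
    repeat rw [if_neg (by omega)]
    exact hv i

omit [Fintype F] in
theorem Tw.t_zero {v : ℕ → F} (hv : Tw m v) {i : ℕ} (h : v (4 * i + 1) = 0) : v (4 * i) = 0 := by
  rw [(hv i).1, h, zero_pow (pow_ne_zero _ two_ne_zero)]

omit [Fintype F] in
theorem Tw.u_zero {v : ℕ → F} (hv : Tw m v) {i : ℕ} (h : v (4 * i + 2) = 0) : v (4 * i + 3) = 0 := by
  rw [(hv i).2, h, zero_pow (mul_ne_zero two_ne_zero (pow_ne_zero _ two_ne_zero))]

omit [Fintype F] in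
theorem van_of {v : ℕ → F} (hv : Tw m v) {R B : List ℕ} (hR : ∀ i ∈ R, v (4 * i + 1) = 0)
    (hB : ∀ i ∈ B, v (4 * i + 2) = 0) : Van v R B := by
  intro x hx
  simp only [ZL, List.mem_append, List.mem_flatMap, List.mem_cons, List.not_mem_nil, or_false] at hx
  rcases hx with ⟨i, hi, rfl | rfl⟩ | ⟨i, hi, rfl | rfl⟩
  exacts [hv.t_zero (hR i hi), hR i hi, hB i hi, hv.u_zero (hB i hi)]

omit [Fintype F] in
theorem Van.t {v : ℕ → F} {R B : List ℕ} (h : Van v R B) {i : ℕ} (hi : i ∈ R) : v (4 * i + 1) = 0 :=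
  h _ (by simp [ZL]; exact Or.inl ⟨i, hi, Or.inr rfl⟩)

omit [Fintype F] in
theorem Van.u {v : ℕ → F} {R B : List ℕ} (h : Van v R B) {i : ℕ} (hi : i ∈ B) : v (4 * i + 2) = 0 :=
  h _ (by simp [ZL]; exact Or.inr ⟨i, hi, Or.inl rfl⟩)

/-- zeros added to those known -/
theorem Van.add {v : ℕ → F} {R B : List ℕ} (h : Van v R B) (hv : Tw m v) {R' B' : List ℕ}
    (hR : ∀ i ∈ R', i ∈ R ∨ v (4 * i + 1) = 0) (hB : ∀ i ∈ B', i ∈ B ∨ v (4 * i + 2) = 0) :
    Van v R' B' :=
  van_of hv (fun i hi => (hR i hi).elim h.t id) (fun i hi => (hB i hi).elim h.u id)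

variable (K) in
/-- the element with coordinates `v` -/
def elU (v : ℕ → F) : ↥(chevF4.group F) := evw K v UW

variable (K m) in
/-- conjugacy in the twisted group -/
def Cj (x y : ↥(chevF4.group F)) : Prop := ∃ g ∈ genG MT K (f4Words F (2 ^ m)), g * x * g⁻¹ = y

omit [Fintype F] in
theorem Cj.trans {x y z : ↥(chevF4.group F)} (h : Cj m K x y) (h' : Cj m K y z) : Cj m K x z := by
  obtain ⟨g, hg, rfl⟩ := h
  obtain ⟨g', hg', rfl⟩ := h'
  exact ⟨g' * g, mul_mem hg' hg, by group⟩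

omit [Fintype F] in
theorem Cj.symm {x y : ↥(chevF4.group F)} (h : Cj m K x y) : Cj m K y x := by
  obtain ⟨g, hg, rfl⟩ := h
  exact ⟨g⁻¹, inv_mem hg, by group⟩

omit [Fintype F] in
theorem Cj.mem {x y : ↥(chevF4.group F)} (h : Cj m K x y) (hx : x ∈ genG MT K (f4Words F (2 ^ m))) :
    y ∈ genG MT K (f4Words F (2 ^ m)) := by
  obtain ⟨g, hg, rfl⟩ := h
  exact mul_mem (mul_mem hg hx) (inv_mem hg)

omit [Fintype F] in
theorem Cj.sq {x y : ↥(chevF4.group F)} (h : Cj m K x y) (hx : x * x = 1) : y * y = 1 := by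
  obtain ⟨g, hg, rfl⟩ := h
  calc g * x * g⁻¹ * (g * x * g⁻¹) = g * (x * x) * g⁻¹ := by group
    _ = 1 := by rw [hx, mul_one, mul_inv_cancel]

omit [Fintype F] in
theorem Cj.ne_one {x y : ↥(chevF4.group F)} (h : Cj m K x y) (hx : x ≠ 1) : y ≠ 1 := by
  obtain ⟨g, hg, rfl⟩ := h
  simpa using hx

omit [Fintype F] in
theorem elU_zw {v : ℕ → F} {R B : List ℕ} (h : Van v R B) : elU K v = evw K v (zw (ZL R B) UW) :=
  evw_zw v h UW

omit [Fintype F] in
/-- an equation from the square -/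
theorem sq_read [CharP F 2] {v : ℕ → F} {R B : List ℕ} (hV : Van v R B) (h2 : elU K v * elU K v = 1)
    {a b : ℕ} {p : Pol} (ha : a < 52) (hb : b < 52)
    (h : readB (zw (ZL R B) UW ++ zw (ZL R B) UW) [] a b p [] = true) : pev v p = 0 := by
  have e : evw K v (zw (ZL R B) UW ++ zw (ZL R B) UW) = evw K v [] := by
    rw [evw_append, ← elU_zw hV, h2]
    simp [evw, Twisted.wv]
  exact (read e ha hb h).trans (pev_nil v)

include Z hK

theorem coord_step {v : ℕ → F} {w : List (ℕ × Pol)} (R B : List ℕ) (hw : posW w = true)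
    (hz : zeroB w R B = true) (hG : evw K v w ∈ G₁) :
    ∃ z, Tw m z ∧ Van z R B ∧ evw K v w = elU K z ∧ evw K v w = evw K z (zw (ZL R B) UW) := by
  haveI := charTwo hK
  obtain ⟨z, hz', e⟩ := exists_coord_U Z hK (u := evw K v w) ⟨hG, evw_mem_U Z hK v hw⟩
  simp only [zeroB, Bool.and_eq_true, List.all_eq_true, decide_eq_true_eq] at hz
  have hR : ∀ i ∈ R, z (4 * i + 1) = 0 := fun i hi => by
    obtain ⟨⟨ha, hb⟩, h⟩ := hz.1 i hi
    simpa [pev, mev] using (read e ha hb h).symm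
  have hV : Van z R [] := van_of hz' hR (by simp)
  have hB : ∀ i ∈ B, z (4 * i + 2) = 0 := fun i hi => by
    obtain ⟨⟨ha, hb⟩, h⟩ := hz.2 i hi
    have e' : evw K v w = evw K z (zw (ZL R []) UW) := e.trans (elU_zw hV)
    simpa [pev, mev] using (read e' ha hb h).symm
  have hV' : Van z R B := van_of hz' hR hB
  exact ⟨z, hz', hV', e, e.trans (elU_zw hV')⟩

/-- conjugation by a ray element -/
theorem conjStep (i : ℕ) (hi : i ∈ [1, 2, 3, 4, 5, 6, 7, 8]) (Zg R B R' B' : List ℕ) {v : ℕ → F}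
    (hv : Tw m v) (hV : Van v R B) (hG : elU K v ∈ G₁) (a b : F)
    (hg : ∀ x ∈ Zg, upd m v a b x = 0) (hlt : (ZL R B).all (fun x => decide (x < 36)) = true)
    (hw : posW (cjw i Zg (ZL R B)) = true) (hz : zeroB (cjw i Zg (ZL R B)) R' B' = true) :
    ∃ z, Tw m z ∧ Van z R' B' ∧ Cj m K (elU K v) (elU K z) ∧
      evw K (upd m v a b) (cjw i Zg (ZL R B)) = evw K z (zw (ZL R' B') UW) := by
  haveI := charTwo hK
  have hu : ∀ x < 36, upd m v a b x = v x := fun x hx => by
    simp only [upd]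
    repeat rw [if_neg (by omega)]
  have hU : elU K v = elU K (upd m v a b) := by
    refine evw_congr fun rp hrp mon hm x hx => (hu x ?_).symm
    have := UW_vars
    simp only [List.all_eq_true, decide_eq_true_eq] at this
    exact this rp hrp mon hm x hx
  have hV' : Van (upd m v a b) R B := fun x hx => by
    have hlt' := List.all_eq_true.1 hlt x hx
    rw [hu x (by simpa using hlt')]
    exact hV x hx
  set g := evw K (upd m v a b) (rayW i 9) with hgdef
  have hgG : g ∈ G₁ := rayW_mem Z hK i hi (hv.upd a b)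
  have e : evw K (upd m v a b) (cjw i Zg (ZL R B)) = g * elU K v * g⁻¹ := by
    rw [cjw, evw_append, evw_append, evw_reverse, ← evw_zw _ hg, ← elU_zw hV', ← hU]
  obtain ⟨z, hz1, hz2, hz3, hz4⟩ := coord_step Z hK R' B' hw hz
    (by rw [e]; exact mul_mem (mul_mem hgG hG) (inv_mem hgG))
  exact ⟨z, hz1, hz2, ⟨g, hgG, e.symm.trans hz3⟩, hz4⟩

/-- conjugation by a reflection -/
theorem mapStep (k : Fin 2) (R B R' B' : List ℕ) {v : ℕ → F}
    (hV : Van v R B) (hG : elU K v ∈ G₁) (hw : posW (mapW' k (zw (ZL R B) UW)) = true)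
    (hz : zeroB (mapW' k (zw (ZL R B) UW)) R' B' = true) :
    ∃ z, Tw m z ∧ Van z R' B' ∧ Cj m K (elU K v) (elU K z) ∧
      evw K v (mapW' k (zw (ZL R B) UW)) = evw K z (zw (ZL R' B') UW) := by
  have e : evw K v (mapW' k (zw (ZL R B) UW)) = nj Z k * elU K v * (nj Z k)⁻¹ := by
    rw [elU_zw hV, nj_conj_evw Z hK]
  obtain ⟨z, hz1, hz2, hz3, hz4⟩ := coord_step Z hK R' B' hw hz
    (by rw [e]; exact mul_mem (mul_mem (nj_mem Z hK k) hG) (inv_mem (nj_mem Z hK k)))
  exact ⟨z, hz1, hz2, ⟨_, nj_mem Z hK k, e.symm.trans hz3⟩, hz4⟩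

end Cfsg.Agent.Twisted.TypeF4
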