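import Cfsg.Agent.Twisted.Groups.F4Inst
import Cfsg.Agent.ChevBT.Main

/-!
The weights of type F4 fixed by the graph symmetry form a plane; the words of the twisted Weyl group act on it
by a dihedral group of order 16, and the closed first quadrant is a fundamental domain.
-/

set_option autoImplicit false
set_option maxRecDepth 4000

namespace Cfsg.Agent.Twisted.TypeF4

open ChevGroup Cfsg.Lie Cfsg.Agent.ChevBT

theorem goodF : ChevCore.Good chevF4 := ChevCore.commGoodF4.toGood

/-- the letters of a word in the two twisted reflections -/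
def wl (W : List (Fin 2)) : List ℕ := (fd.O.word W).map Fin.val

theorem wl_lt (W : List (Fin 2)) : ∀ i ∈ wl W, i < chevF4.rank := fun i hi => by
  obtain ⟨j, -, rfl⟩ := List.mem_map.1 hi
  exact MT.lt_l j

theorem wl_cons (k : Fin 2) (W : List (Fin 2)) : wl (k :: W) = (fd.O.wd k).map Fin.val ++ wl W := by
  simp [wl, OrbitData.word]

theorem wd_lt (k : Fin 2) : ∀ i ∈ (fd.O.wd k).map Fin.val, i < chevF4.rank := fun i hi => by
  obtain ⟨j, -, rfl⟩ := List.mem_map.1 hi
  exact MT.lt_l j

theorem actW_val (w : List (Fin MT.tab.l)) (r : Fin MT.tab.n) :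
    ChevCore.actW chevF4 (w.map Fin.val) r.val = (MT.S.actw w r).val := by
  induction w with
  | nil => simp
  | cons i w ih => rw [List.map_cons, ChevCore.actW_cons, ih, RootIdx.actw_cons, MT.refl_eq]

theorem actx_append {u v : List ℕ} (hu : ∀ i ∈ u, i < chevF4.rank) (hv : ∀ i ∈ v, i < chevF4.rank)
    (x : Fin chevF4.rank → ℝ) : actx chevF4 (u ++ v) x = actx chevF4 u (actx chevF4 v x) := by
  funext j
  show lam x (ChevCore.actW chevF4 (u ++ v).reverse _) = lam (actx chevF4 v x) (ChevCore.actW chevF4 u.reverse _)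
  rw [List.reverse_append, ChevCore.actW_append, lam_actx goodF hv
    (goodF.actW_lt (fun i hi => hu i (List.mem_reverse.1 hi)) (goodF.simple_lt j.isLt))]

/-- the weights fixed by the symmetry -/
noncomputable def sx (p : ℝ × ℝ) : Fin chevF4.rank → ℝ :=
  fun j => ([p.1, p.2, Real.sqrt 2 * p.2, Real.sqrt 2 * p.1] : List ℝ).getD j.val 0

/-- the two reflections on the plane -/
noncomputable def sref (k : Fin 2) (p : ℝ × ℝ) : ℝ × ℝ :=
  if k = 0 then (-p.1, p.1 + p.2) else (p.1 + (2 + Real.sqrt 2) * p.2, -p.2)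

/-- a word on the plane -/
noncomputable def act2 : List (Fin 2) → ℝ × ℝ → ℝ × ℝ
  | [], p => p
  | k :: W, p => sref k (act2 W p)

theorem forall_rank {P : Fin chevF4.rank → Prop} (h0 : P ⟨0, by decide⟩) (h1 : P ⟨1, by decide⟩)
    (h2 : P ⟨2, by decide⟩) (h3 : P ⟨3, by decide⟩) : ∀ j : Fin chevF4.rank, P j := by
  rintro ⟨j, hj⟩
  have : j < 4 := hj
  interval_cases j <;> assumption

theorem cart :
    (List.range 4).map (fun i => (List.range 4).map fun j => chevF4.cartan i (chevF4.simple j)) =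
      [[2, -1, 0, 0], [-1, 2, -2, 0], [0, -1, 2, -1], [0, 0, -1, 2]] := by decide +kernel

theorem single_eq (i : ℕ) (hi : i < chevF4.rank) (x : Fin chevF4.rank → ℝ) :
    actx chevF4 [i] x = fun j => x j - (chevF4.cartan i (chevF4.simple j.val) : ℝ) * x ⟨i, hi⟩ :=
  funext fun j => actx_single goodF (i := ⟨i, hi⟩) x j

theorem actx_sx_one (k : Fin 2) (p : ℝ × ℝ) :
    actx chevF4 ((fd.O.wd k).map Fin.val) (sx p) = sx (sref k p) := by
  have c := cart
  simp only [List.range_succ, List.range_zero, List.nil_append, List.cons_append, List.map_cons,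
    List.map_nil, List.cons.injEq, and_true] at c
  obtain ⟨⟨c00, c01, c02, c03⟩, ⟨c10, c11, c12, c13⟩, ⟨c20, c21, c22, c23⟩, ⟨c30, c31, c32, c33⟩⟩ := c
  have h2 : Real.sqrt 2 * Real.sqrt 2 = 2 := Real.mul_self_sqrt (by norm_num)
  fin_cases k
  · rw [show (fd.O.wd ⟨0, by norm_num⟩).map Fin.val = [0, 3] from rfl,
      show [0, 3] = [0] ++ [3] from rfl, actx_append (by decide) (by decide),
      single_eq 0 (by decide), single_eq 3 (by decide)]
    refine funext (forall_rank ?_ ?_ ?_ ?_) <;>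
      simp [sx, sref, c00, c01, c02, c03, c30, c31, c32, c33] <;> ring
  · rw [show (fd.O.wd ⟨1, by norm_num⟩).map Fin.val = [1, 2, 1, 2] from rfl,
      show [1, 2, 1, 2] = [1] ++ ([2] ++ ([1] ++ [2])) from rfl, actx_append (by decide) (by decide),
      actx_append (by decide) (by decide), actx_append (by decide) (by decide),
      single_eq 1 (by decide), single_eq 2 (by decide), single_eq 1 (by decide), single_eq 2 (by decide)]
    refine funext (forall_rank ?_ ?_ ?_ ?_) <;>
      simp [sx, sref, c10, c11, c12, c13, c20, c21, c22, c23] <;> ring_nf <;>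
      (try rw [Real.sq_sqrt (by norm_num : (0 : ℝ) ≤ 2)]) <;> (try ring)

theorem actx_sx (W : List (Fin 2)) (p : ℝ × ℝ) : actx chevF4 (wl W) (sx p) = sx (act2 W p) := by
  induction W with
  | nil => exact actx_nil goodF _
  | cons k W ih => rw [wl_cons, actx_append (wd_lt k) (wl_lt W), ih, actx_sx_one, act2]

theorem sx_inj {p p' : ℝ × ℝ} (h : sx p = sx p') : p = p' := by
  refine Prod.ext ?_ ?_
  · simpa [sx] using congrFun h ⟨0, by decide⟩
  · simpa [sx] using congrFun h ⟨1, by decide⟩

/-- the sixteen elements of the twisted Weyl group -/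
def reps : List (List (Fin 2)) :=
  [[], [0], [1], [0, 1], [1, 0], [0, 1, 0], [1, 0, 1], [0, 1, 0, 1], [1, 0, 1, 0], [0, 1, 0, 1, 0],
   [1, 0, 1, 0, 1], [0, 1, 0, 1, 0, 1], [1, 0, 1, 0, 1, 0], [0, 1, 0, 1, 0, 1, 0],
   [1, 0, 1, 0, 1, 0, 1], [1, 0, 1, 0, 1, 0, 1, 0]]

theorem reps_closed : ((List.finRange 2).all fun k => reps.all fun V => reps.any fun V' =>
    OrbitData.sameB MT.S (fd.O.word (k :: V)) (fd.O.word V')) = true := by
  decide +kernel

theorem exists_rep (W : List (Fin 2)) :
    ∃ V ∈ reps, ∀ r, MT.S.actw (fd.O.word W) r = MT.S.actw (fd.O.word V) r := by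
  induction W with
  | nil => exact ⟨[], by simp [reps], fun _ => rfl⟩
  | cons k W ih =>
    obtain ⟨V, hV, he⟩ := ih
    have h := reps_closed
    simp only [List.all_eq_true, List.any_eq_true] at h
    obtain ⟨V', hV', hs⟩ := h k (List.mem_finRange k) V hV
    refine ⟨V', hV', fun r => ?_⟩
    rw [← OrbitData.same_of_sameB hs r]
    show MT.S.actw ((fd.O.wd k) ++ fd.O.word W) r = MT.S.actw ((fd.O.wd k) ++ fd.O.word V) r
    rw [RootIdx.actw_append, RootIdx.actw_append, he]

theorem act2_congr {A B : List (Fin 2)}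
    (h : ∀ r, MT.S.actw (fd.O.word A) r = MT.S.actw (fd.O.word B) r) (p : ℝ × ℝ) :
    act2 A p = act2 B p := by
  refine sx_inj ?_
  rw [← actx_sx, ← actx_sx]
  funext j
  have hA : ∀ i ∈ (wl A).reverse, i < chevF4.rank := fun i hi => wl_lt A i (List.mem_reverse.1 hi)
  set r := ChevCore.actW chevF4 (wl A).reverse (chevF4.simple j.val) with hr
  have hrl : r < chevF4.nroots := goodF.actW_lt hA (goodF.simple_lt j.isLt)
  have eA : ChevCore.actW chevF4 (wl A) r = chevF4.simple j.val :=
    goodF.actW_reverse (wl_lt A) (goodF.simple_lt j.isLt)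
  have eB : ChevCore.actW chevF4 (wl B) r = chevF4.simple j.val := by
    rw [← eA]
    let r' : Fin MT.tab.n := ⟨r, MT.n_eq ▸ hrl⟩
    show ChevCore.actW chevF4 (wl B) r'.val = ChevCore.actW chevF4 (wl A) r'.val
    rw [wl, wl, actW_val, actW_val, h]
  rw [← lam_simple goodF (actx chevF4 (wl A) (sx p)) j, ← lam_simple goodF (actx chevF4 (wl B) (sx p)) j]
  conv_lhs => rw [← eA, lam_actx' goodF (wl_lt A) hrl]
  conv_rhs => rw [← eB, lam_actx' goodF (wl_lt B) hrl]

theorem exists_dom (p : ℝ × ℝ) : ∃ V : List (Fin 2), 0 ≤ (act2 V p).1 ∧ 0 ≤ (act2 V p).2 := by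
  obtain ⟨V, hV, hmax⟩ := List.toFinset reps |>.exists_max_image
    (fun V => 4 * (act2 V p).1 + 7 * (act2 V p).2) ⟨[], by simp [reps]⟩
  have step : ∀ k, 4 * (sref k (act2 V p)).1 + 7 * (sref k (act2 V p)).2 ≤
      4 * (act2 V p).1 + 7 * (act2 V p).2 := fun k => by
    obtain ⟨V', hV', he⟩ := exists_rep (k :: V)
    have := hmax V' (List.mem_toFinset.2 hV')
    rw [← act2_congr he] at this
    exact this
  refine ⟨V, ?_, ?_⟩
  · have := step 0
    simp [sref] at this
    linarith
  · have := step 1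
    have hs : Real.sqrt 2 < 3 / 2 := by
      rw [Real.sqrt_lt' (by norm_num)]; norm_num
    simp [sref] at this
    nlinarith

theorem sx_nonneg {p : ℝ × ℝ} (ha : 0 ≤ p.1) (hb : 0 ≤ p.2) (j : Fin chevF4.rank) : 0 ≤ sx p j := by
  revert j
  refine forall_rank ?_ ?_ ?_ ?_ <;> simp [sx] <;> positivity

theorem sx_smul (c : ℝ) (p : ℝ × ℝ) : sx (c • p) = c • sx p := by
  refine funext (forall_rank ?_ ?_ ?_ ?_) <;> simp [sx] <;> ring

theorem sx_add (p p' : ℝ × ℝ) : sx (p + p') = sx p + sx p' := by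
  refine funext (forall_rank ?_ ?_ ?_ ?_) <;> simp [sx] <;> ring

/-- For a reduced element outside the allowed list some root with positive `i`-th coefficient becomes negative. -/
theorem move_ok : ([(0, [[], [1]]), (1, [[], [0]])] : List (ℕ × List (List (Fin 2)))).all (fun c =>
    reps.all fun V => decide (V ∈ c.2) || (List.finRange MT.tab.n).any fun r =>
      decide (MT.S.pos r) && decide (0 < ChevCore.coef chevF4 r.val c.1) &&
        !decide (MT.S.pos (MT.S.actw (fd.O.word V) r))) = true := by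
  decide +kernel

end Cfsg.Agent.Twisted.TypeF4
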